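import Mathlib

/-!
# A trivial intersection subgroup with too many involutions

`M` meets its other conjugates trivially, `N = N(M) = M C_N(z)` for an involution `z` of `N`, the
centralizers of the elements of `M#` have odd order, and there are more involutions than cosets of
`M`. First facts: `M` is abelian of odd order and inverted by `z`, the involutions of `N` are the
`x z`, and every coset of `M` outside `N` contains exactly one involution.
-/

set_option autoImplicit false
set_option linter.style.haveILetI false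
set_option linter.unusedSectionVars false

namespace CfsgLib.TIInvol

variable {G : Type*} [Group G] [Finite G]

/-- The normalizer of `M`. -/
abbrev nM (M : Subgroup G) : Subgroup G := Subgroup.normalizer (M : Set G)

/-- `C_N(z)`. -/
abbrev hM (M : Subgroup G) (z : G) : Subgroup G := nM M ⊓ Subgroup.centralizer ({z} : Set G)

/-- The configuration. -/
structure Cfg (M : Subgroup G) (z : G) : Prop where
  ne : M ≠ ⊥
  ti : ∀ g : G, M ⊓ M.map (MulAut.conj g).toMonoidHom ≠ ⊥ → M.map (MulAut.conj g).toMonoidHom = M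
  ord : orderOf z = 2
  mem : z ∈ nM M
  fac : M ⊔ hM M z = nM M
  odd : ∀ x ∈ M, x ≠ 1 → Odd (Nat.card ↥(Subgroup.centralizer ({x} : Set G)))
  notNormal : ¬ M.Normal
  big : M.index < Nat.card {g : G // orderOf g = 2}

theorem orderOf_eq_two_iff' {g : G} : orderOf g = 2 ↔ g ≠ 1 ∧ g * g = 1 := by
  rw [orderOf_eq_iff (by norm_num : 0 < 2)]
  constructor
  · rintro ⟨h2, h1⟩
    exact ⟨fun h => h1 1 (by norm_num) (by norm_num) (by rw [pow_one, h]), by rw [← pow_two, h2]⟩
  · rintro ⟨h1, h2⟩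
    refine ⟨by rw [pow_two, h2], fun m hm hm0 => ?_⟩
    interval_cases m
    rw [pow_one]; exact h1

theorem sq_eq_one_of_odd {x : G} (hx : Odd (orderOf x)) (h : x * x = 1) : x = 1 := by
  have h2 : orderOf x ∣ 2 := orderOf_dvd_of_pow_eq_one (by rw [pow_two, h])
  rcases (Nat.dvd_prime Nat.prime_two).1 h2 with h1 | h1
  · exact orderOf_eq_one_iff.1 h1
  · rw [h1] at hx; exact absurd hx (by decide)

namespace Cfg

variable {M : Subgroup G} {z : G} (c : Cfg M z)
include c

theorem zz : z * z = 1 := (orderOf_eq_two_iff'.1 c.ord).2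

theorem z_ne : z ≠ 1 := (orderOf_eq_two_iff'.1 c.ord).1

theorem zinv : z⁻¹ = z := inv_eq_of_mul_eq_one_right c.zz

theorem conj_mem {g x : G} (hg : g ∈ nM M) (hx : x ∈ M) : g * x * g⁻¹ ∈ M :=
  (Subgroup.mem_normalizer_iff.1 hg x).1 hx

theorem mem_nM {g x : G} (hx : x ∈ M) (h1 : x ≠ 1) (h : g * x * g⁻¹ ∈ M) : g ∈ nM M := by
  have heq : M.map (MulAut.conj g).toMonoidHom = M := by
    refine c.ti g fun hb => h1 ?_
    have : g * x * g⁻¹ ∈ M ⊓ M.map (MulAut.conj g).toMonoidHom := ⟨h, x, hx, rfl⟩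
    rw [hb, Subgroup.mem_bot] at this
    exact conj_eq_one_iff.1 this
  refine Subgroup.mem_normalizer_iff.2 fun y => ⟨fun hy => heq ▸ ⟨y, hy, rfl⟩, fun hy => ?_⟩
  rw [← heq] at hy
  obtain ⟨w, hw, hwe⟩ := hy
  have he : g * w * g⁻¹ = g * y * g⁻¹ := hwe
  exact (show w = y by simpa using he) ▸ hw

theorem not_commute_inv {x u : G} (hx : x ∈ M) (h1 : x ≠ 1) (hu : u ≠ 1) (huu : u * u = 1) :
    u * x ≠ x * u := by
  intro h
  have hm : u ∈ Subgroup.centralizer ({x} : Set G) := fun y hy => by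
    rw [Set.mem_singleton_iff.1 hy]; exact h.symm
  exact hu (sq_eq_one_of_odd (Odd.of_dvd_nat (c.odd x hx h1)
    (Subgroup.orderOf_dvd_natCard _ hm)) huu)

/-- An involution of `N` inverts `M`. -/
theorem inverts {u : G} (hu : u ∈ nM M) (h1 : u ≠ 1) (h2 : u * u = 1) {x : G} (hx : x ∈ M) :
    u * x * u = x⁻¹ := by
  have hui : u⁻¹ = u := inv_eq_of_mul_eq_one_right h2
  have hmem : ∀ y ∈ M, u * y * u ∈ M := fun y hy => by
    have := c.conj_mem hu hy; rwa [hui] at this
  let φ : M →* M :=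
    { toFun := fun y => ⟨u * y * u, hmem y y.2⟩
      map_one' := Subtype.ext (by simp [h2])
      map_mul' := fun a b => Subtype.ext (by
        show u * (a * b : G) * u = u * a * u * (u * b * u)
        calc u * (a * b : G) * u = u * a * (u * u) * b * u := by rw [h2]; group
          _ = u * a * u * (u * b * u) := by group) }
  have hf : MonoidHom.FixedPointFree φ := fun y hy => by
    by_contra hne
    have he : u * (y : G) * u = y := congrArg Subtype.val hy
    refine c.not_commute_inv y.2 (fun h => hne (Subtype.ext h)) h1 h2 ?_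
    calc u * (y : G) = u * y * u * u := by rw [mul_assoc _ u u, h2, mul_one]
      _ = y * u := by rw [he]
  have hinv : Function.Involutive φ := fun y => Subtype.ext (by
    show u * (u * (y : G) * u) * u = y
    calc u * (u * (y : G) * u) * u = (u * u) * y * (u * u) := by group
      _ = y := by rw [h2]; group)
  exact congrArg Subtype.val (congrFun (hf.coe_eq_inv_of_involutive hinv) ⟨x, hx⟩)

theorem zinverts {x : G} (hx : x ∈ M) : z * x * z = x⁻¹ := c.inverts c.mem c.z_ne c.zz hx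

theorem comm {x y : G} (hx : x ∈ M) (hy : y ∈ M) : x * y = y * x := by
  have h1 := c.zinverts (M.mul_mem hx hy)
  have h2 : z * (x * y) * z = x⁻¹ * y⁻¹ := by
    rw [← c.zinverts hx, ← c.zinverts hy]
    calc z * (x * y) * z = z * x * (z * z) * y * z := by rw [c.zz]; group
      _ = z * x * z * (z * y * z) := by group
  have := congrArg (·⁻¹) (h2.symm.trans h1)
  simpa using this.symm

theorem odd_card : Odd (Nat.card M) := by
  by_contra h
  rw [Nat.not_odd_iff_even, even_iff_two_dvd] at h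
  haveI : Fact (Nat.Prime 2) := ⟨Nat.prime_two⟩
  obtain ⟨x, hx⟩ := exists_prime_orderOf_dvd_card' (G := M) 2 h
  rw [← Subgroup.orderOf_coe] at hx
  obtain ⟨h1, h2⟩ := orderOf_eq_two_iff'.1 hx
  refine h1 (sq_eq_one_of_odd (Odd.of_dvd_nat (c.odd x x.2 h1)
    (Subgroup.orderOf_dvd_natCard _ ?_)) h2)
  intro y hy
  rw [Set.mem_singleton_iff.1 hy]

theorem odd_ord {x : G} (hx : x ∈ M) : Odd (orderOf x) :=
  Odd.of_dvd_nat c.odd_card (M.orderOf_dvd_natCard hx)

theorem z_notMem : z ∉ M := fun h => c.z_ne (sq_eq_one_of_odd (c.odd_ord h) c.zz)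

theorem h_comm {v : G} (hv : v ∈ hM M z) : z * v = v * z := hv.2 z rfl

theorem inf_eq {x : G} (hx : x ∈ M) (hx' : x ∈ hM M z) : x = 1 := by
  by_contra h1
  exact c.not_commute_inv hx h1 c.z_ne c.zz (c.h_comm hx')

theorem z_mem_h : z ∈ hM M z := ⟨c.mem, fun y hy => by rw [Set.mem_singleton_iff.1 hy]⟩

theorem decomp {g : G} (hg : g ∈ nM M) : ∃ x ∈ M, ∃ v ∈ hM M z, g = x * v := by
  have hs : g ∈ ((M ⊔ hM M z : Subgroup G) : Set G) := by rw [c.fac]; exact hg
  rw [Subgroup.coe_mul_of_right_le_normalizer_left M (hM M z) inf_le_left] at hs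
  obtain ⟨x, hx, v, hv, he⟩ := hs
  exact ⟨x, hx, v, hv, he.symm⟩

theorem decomp_unique {x x' v v' : G} (hx : x ∈ M) (hx' : x' ∈ M) (hv : v ∈ hM M z)
    (hv' : v' ∈ hM M z) (h : x * v = x' * v') : x = x' ∧ v = v' := by
  have he : x'⁻¹ * x = v' * v⁻¹ := by
    calc x'⁻¹ * x = x'⁻¹ * (x * v) * v⁻¹ := by group
      _ = v' * v⁻¹ := by rw [h]; group
  have h0 := c.inf_eq (M.mul_mem (M.inv_mem hx') hx) (he ▸ (hM M z).mul_mem hv' ((hM M z).inv_mem hv))
  refine ⟨(inv_mul_eq_one.1 h0).symm, ?_⟩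
  rw [he] at h0
  exact (mul_inv_eq_one.1 h0).symm

theorem m_le : M ≤ nM M := Subgroup.le_normalizer

/-- The involutions of `N` are the `x z`. -/
theorem inv_nM {u : G} (hu : u ∈ nM M) (h1 : u ≠ 1) (h2 : u * u = 1) : ∃ x ∈ M, u = x * z := by
  obtain ⟨x, hx, v, hv, rfl⟩ := c.decomp hu
  have hvv : v * v = 1 := by
    have he : (x * (v * x * v⁻¹)) * (v * v) = 1 * 1 := by
      rw [one_mul]; rw [← h2]; group
    exact (c.decomp_unique (M.mul_mem hx (c.conj_mem hv.1 hx)) M.one_mem ((hM M z).mul_mem hv hv)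
      (hM M z).one_mem he).2
  have hv1 : v ≠ 1 := by
    rintro rfl
    rw [mul_one] at h1 h2
    exact h1 (sq_eq_one_of_odd (c.odd_ord hx) h2)
  refine ⟨x, hx, ?_⟩
  by_contra hne
  obtain ⟨⟨y, hy⟩, hy1⟩ := Subgroup.ne_bot_iff_exists_ne_one.1 c.ne
  have hvz : v * z ≠ 1 := fun h => hne (by rw [eq_inv_of_mul_eq_one_left h, c.zinv])
  have hzv := c.h_comm hv
  refine c.not_commute_inv hy (fun h => hy1 (Subtype.ext h)) hvz ?_ ?_
  · calc v * z * (v * z) = v * (z * v) * z := by group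
      _ = v * v * (z * z) := by rw [hzv]; group
      _ = 1 := by rw [hvv, c.zz, one_mul]
  · have hvi : v⁻¹ = v := inv_eq_of_mul_eq_one_right hvv
    have e1 := c.inverts hv.1 hv1 hvv (M.inv_mem hy)
    have e2 := c.zinverts hy
    rw [inv_inv] at e1
    calc v * z * y = v * (z * y * z) * z := by simp [mul_assoc, c.zz]
      _ = (v * y⁻¹ * v) * (v * z) := by rw [e2]; simp [mul_assoc, ← mul_assoc v v, hvv]
      _ = y * (v * z) := by rw [e1]

theorem mz_inv {x : G} (hx : x ∈ M) : orderOf (x * z) = 2 := by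
  refine orderOf_eq_two_iff'.2 ⟨fun h => c.z_notMem ?_, ?_⟩
  · rw [eq_inv_of_mul_eq_one_right h]; exact M.inv_mem hx
  · calc x * z * (x * z) = x * (z * x * z) := by group
      _ = 1 := by rw [c.zinverts hx, mul_inv_cancel]

/-- Two involutions in a coset of `M` outside `N` are equal. -/
theorem coset_unique {t t' : G} (ht : t ∉ nM M) (h2 : t * t = 1) (h2' : t' * t' = 1)
    (hm : t⁻¹ * t' ∈ M) : t = t' := by
  by_contra hne
  have hti : t⁻¹ = t := inv_eq_of_mul_eq_one_right h2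
  have hti' : t'⁻¹ = t' := inv_eq_of_mul_eq_one_right h2'
  refine ht (c.mem_nM hm (fun h => hne (inv_mul_eq_one.1 h)) ?_)
  have : t * (t⁻¹ * t') * t⁻¹ = (t⁻¹ * t')⁻¹ := by
    rw [mul_inv_rev, inv_inv, hti', mul_inv_cancel_left, hti]
  rw [this]
  exact M.inv_mem hm

theorem free {g x : G} (hg : g ∉ nM M) (hx : x ∈ M) (h : g⁻¹ * x * g ∈ M) : x = 1 := by
  by_contra h1
  refine hg ((nM M).inv_mem_iff.1 (c.mem_nM hx h1 ?_))
  rwa [inv_inv]

theorem key : (∀ g : G, g ∉ nM M → ∃ t : G, orderOf t = 2 ∧ g⁻¹ * t ∈ M) ∧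
    Nat.card (hM M z) < Nat.card M ∧
      Nat.card {g : G // orderOf g = 2} + Nat.card (hM M z) = M.index + Nat.card M := by
  classical
  haveI : Fintype G := Fintype.ofFinite G
  haveI : Fintype (G ⧸ M) := Fintype.ofFinite _
  set I := {g : G // orderOf g = 2}
  -- the split of the cosets of `M`
  let Out := {q : G ⧸ M // ∀ g : G, (g : G ⧸ M) = q → g ∉ nM M}
  have hout : ∀ g : G, g ∉ nM M → ∀ g' : G, (g' : G ⧸ M) = (g : G ⧸ M) → g' ∉ nM M := by
    intro g hg g' he hn
    have hm := QuotientGroup.eq.1 he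
    exact hg (by simpa using (nM M).mul_mem hn (c.m_le hm))
  have hidx : Nat.card (hM M z) + Nat.card Out = M.index := by
    rw [Subgroup.index_eq_card, ← Nat.card_sum]
    refine Nat.card_congr (Equiv.ofBijective (Sum.elim (fun v => ((v : G) : G ⧸ M)) (fun q => q.1))
      ⟨?_, fun q => ?_⟩)
    · rintro (v | q) (v' | q') he <;> simp only [Sum.elim_inl, Sum.elim_inr] at he
      · have hm := QuotientGroup.eq.1 he
        have := c.inf_eq hm ((hM M z).mul_mem ((hM M z).inv_mem v.2) v'.2)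
        exact congrArg Sum.inl (Subtype.ext (inv_mul_eq_one.1 this))
      · exact absurd v.2.1 (q'.2 _ he)
      · exact absurd v'.2.1 (q.2 _ he.symm)
      · exact congrArg Sum.inr (Subtype.ext he)
    · obtain ⟨g, rfl⟩ := QuotientGroup.mk_surjective q
      by_cases hg : g ∈ nM M
      · obtain ⟨x, hx, v, hv, rfl⟩ := c.decomp hg
        refine ⟨Sum.inl ⟨v, hv⟩, QuotientGroup.eq.2 ?_⟩
        show v⁻¹ * (x * v) ∈ M
        have := c.conj_mem ((nM M).inv_mem hv.1) hx
        simpa [mul_assoc] using this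
      · exact ⟨Sum.inr ⟨_, hout g hg⟩, rfl⟩
  -- the involutions
  let Full := {q : Out // ∃ t : G, orderOf t = 2 ∧ (t : G ⧸ M) = q.1}
  have hinv : Nat.card I = Nat.card M + Nat.card Full := by
    rw [← Nat.card_sum]
    refine Nat.card_congr (Equiv.ofBijective (Sum.elim
      (fun x : M => (⟨(x : G) * z, c.mz_inv x.2⟩ : I))
      (fun q : Full => (⟨q.2.choose, q.2.choose_spec.1⟩ : I))) ⟨?_, fun t => ?_⟩).symm
    · rintro (x | q) (x' | q') he <;> simp only [Sum.elim_inl, Sum.elim_inr, Subtype.mk.injEq] at he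
      · exact congrArg Sum.inl (Subtype.ext (mul_right_cancel he))
      · exact absurd ((nM M).mul_mem (c.m_le x.2) c.mem) (q'.1.2 _ (he ▸ q'.2.choose_spec.2))
      · exact absurd ((nM M).mul_mem (c.m_le x'.2) c.mem) (q.1.2 _ (he.symm ▸ q.2.choose_spec.2))
      · refine congrArg Sum.inr (Subtype.ext (Subtype.ext ?_))
        rw [← q.2.choose_spec.2, ← q'.2.choose_spec.2, he]
    · obtain ⟨ht1, ht2⟩ := orderOf_eq_two_iff'.1 t.2
      by_cases hg : t.1 ∈ nM M
      · obtain ⟨x, hx, he⟩ := c.inv_nM hg ht1 ht2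
        exact ⟨Sum.inl ⟨x, hx⟩, Subtype.ext he.symm⟩
      · let q : Full := ⟨⟨_, hout t.1 hg⟩, t.1, t.2, rfl⟩
        refine ⟨Sum.inr q, Subtype.ext ?_⟩
        exact (c.coset_unique hg ht2 (orderOf_eq_two_iff'.1 q.2.choose_spec.1).2
          (QuotientGroup.eq.1 q.2.choose_spec.2.symm)).symm
  -- the cosets without involution
  let Emp := {q : Out // ¬ ∃ t : G, orderOf t = 2 ∧ (t : G ⧸ M) = q.1}
  have hsplit : Nat.card Out = Nat.card Full + Nat.card Emp := by
    rw [← Nat.card_sum]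
    exact Nat.card_congr (Equiv.sumCompl _).symm
  have hbig : M.index < Nat.card I := c.big
  have hemp : IsEmpty Emp := by
    by_contra hne
    obtain ⟨q⟩ := not_isEmpty_iff.1 hne
    obtain ⟨g, hg⟩ := QuotientGroup.mk_surjective q.1.1
    have hgN : g ∉ nM M := q.1.2 g hg
    have hgx : ∀ x : M, (x : G) * g ∉ nM M := fun x hn =>
      hgN (by simpa using (nM M).mul_mem ((nM M).inv_mem (c.m_le x.2)) hn)
    let f : M → Emp := fun x => ⟨⟨((x : G) * g : G), hout _ (hgx x)⟩, by
      rintro ⟨t, ht, he⟩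
      refine q.2 ⟨(x : G)⁻¹ * t * x, ?_, ?_⟩
      · have : (x : G)⁻¹ * t * x = MulAut.conj (x : G)⁻¹ t := by simp
        rw [this, MulEquiv.orderOf_eq, ht]
      · rw [← hg, QuotientGroup.eq]
        have h2 := QuotientGroup.eq.1 he
        have : ((x : G)⁻¹ * t * x)⁻¹ * g = (x : G)⁻¹ * (t⁻¹ * ((x : G) * g)) := by group
        rw [this]
        exact M.mul_mem (M.inv_mem x.2) h2⟩
    have hf : Function.Injective f := by
      intro x y he
      have hm := QuotientGroup.eq.1 (congrArg (fun e : Emp => e.1.1) he)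
      have : ((x : G) * g)⁻¹ * ((y : G) * g) = g⁻¹ * ((x : G)⁻¹ * y) * g := by group
      rw [this] at hm
      exact Subtype.ext (inv_mul_eq_one.1 (c.free hgN (M.mul_mem (M.inv_mem x.2) y.2) hm))
    have := Nat.card_le_card_of_injective f hf
    omega
  rw [(Nat.card_of_isEmpty : Nat.card Emp = 0), add_zero] at hsplit
  refine ⟨fun g hg => ?_, by omega, by omega⟩
  by_contra hno
  refine hemp.elim ⟨⟨(g : G ⧸ M), hout g hg⟩, fun ⟨t, ht, he⟩ => hno ⟨t, ht, ?_⟩⟩
  exact QuotientGroup.eq.1 he.symm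

end Cfg

end CfsgLib.TIInvol
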