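import Cfsg.Agent.Lib.TIInvol.Points
import Mathlib.GroupTheory.SpecificGroups.Dihedral

/-!
# A dihedral normalizer
-/

set_option autoImplicit false
set_option linter.style.haveILetI false
set_option linter.unusedSectionVars false

namespace CfsgLib.TIInvol

variable {G : Type*} [Group G] [Finite G]

namespace Cfg

variable {M : Subgroup G} {z : G} (c : Cfg M z)
include c

theorem nM_dihedral (hc : IsCyclic M) (hh : ∀ v ∈ hM M z, v = 1 ∨ v = z) {k : ℕ}
    (hk : Nat.card M = k) : Nonempty (↥(nM M) ≃* DihedralGroup k) := by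
  subst hk
  let e := zmodCyclicMulEquiv (G := M) hc
  let f : ZMod (Nat.card M) → G := fun i => ((e (Multiplicative.ofAdd i) : M) : G)
  have hfM : ∀ i, f i ∈ M := fun i => SetLike.coe_mem _
  have hf0 : f 0 = 1 := by simp [f]
  have hfadd : ∀ i j, f (i + j) = f i * f j := fun i j => by simp [f]
  have hfneg : ∀ i, f (-i) = (f i)⁻¹ := fun i => by simp [f]
  have hfinj : ∀ i j, f i = f j → i = j := fun i j h =>
    Multiplicative.ofAdd.injective (e.injective (Subtype.ext h))
  have hfsurj : ∀ x ∈ M, ∃ i, f i = x := fun x hx =>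
    ⟨Multiplicative.toAdd (e.symm ⟨x, hx⟩), by simp [f]⟩
  have hzf : ∀ i, f i * z = z * f (-i) := fun i => by
    rw [hfneg, ← c.zinverts (hfM i)]
    simp [← mul_assoc, c.zz]
  have hzN : ∀ i, z * f i ∈ nM M := fun i => (nM M).mul_mem c.mem (c.m_le (hfM i))
  let φ : DihedralGroup (Nat.card M) → nM M := fun d => match d with
    | .r i => ⟨f i, c.m_le (hfM i)⟩
    | .sr i => ⟨z * f i, hzN i⟩
  have hmul : ∀ a b, φ (a * b) = φ a * φ b := by
    rintro (i | i) (j | j) <;> refine Subtype.ext ?_
    · rw [DihedralGroup.r_mul_r]; exact hfadd i j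
    · rw [DihedralGroup.r_mul_sr]
      show z * f (j - i) = f i * (z * f j)
      rw [← mul_assoc, hzf, mul_assoc, ← hfadd, sub_eq_neg_add]
    · rw [DihedralGroup.sr_mul_r]
      show z * f (i + j) = z * f i * f j
      rw [hfadd, mul_assoc]
    · rw [DihedralGroup.sr_mul_sr]
      show f (j - i) = z * f i * (z * f j)
      rw [mul_assoc, ← mul_assoc (f i), hzf, ← mul_assoc, ← mul_assoc, c.zz, one_mul, ← hfadd,
        sub_eq_neg_add]
  have hinj : Function.Injective φ := by
    rintro (i | i) (j | j) he <;> have he' : _ = _ := congrArg Subtype.val he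
    · exact congrArg DihedralGroup.r (hfinj i j he')
    · exact absurd (M.mul_mem (hfM i) (M.inv_mem (hfM j))) (by
        show f i * (f j)⁻¹ ∉ M
        rw [show f i = z * f j from he', mul_inv_cancel_right]; exact c.z_notMem)
    · exact absurd (M.mul_mem (hfM j) (M.inv_mem (hfM i))) (by
        show f j * (f i)⁻¹ ∉ M
        rw [show f j = z * f i from he'.symm, mul_inv_cancel_right]; exact c.z_notMem)
    · exact congrArg DihedralGroup.sr (hfinj i j (mul_left_cancel (show z * f i = z * f j from he')))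
  have hsurj : Function.Surjective φ := by
    rintro ⟨g, hg⟩
    obtain ⟨x, hx, v, hv, rfl⟩ := c.decomp hg
    obtain ⟨i, rfl⟩ := hfsurj x hx
    rcases hh v hv with rfl | rfl
    · exact ⟨.r i, Subtype.ext (mul_one _).symm⟩
    · exact ⟨.sr (-i), Subtype.ext (hzf i).symm⟩
  exact ⟨(MulEquiv.ofBijective (MonoidHom.mk' φ hmul) ⟨hinj, hsurj⟩).symm⟩

end Cfg

end CfsgLib.TIInvol
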