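import Cfsg.Agent.Lib.TIInvol.Points

/-!
# More than one coset besides the base one is fixed by `z`

Then `C_N(z)` has order two and `C(z)` is elementary abelian.
-/

set_option autoImplicit false
set_option linter.style.haveILetI false
set_option linter.unusedSectionVars false

namespace CfsgLib.TIInvol

variable {G : Type*} [Group G] [Finite G]

theorem card_isConj (g : G) :
    Nat.card {t : G // IsConj g t} = (Subgroup.centralizer ({g} : Set G)).index := by
  rw [Subgroup.index_eq_card]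
  refine (Nat.card_congr (Equiv.ofBijective (fun q : G ⧸ Subgroup.centralizer ({g} : Set G) =>
    (⟨q.out * g * q.out⁻¹, isConj_iff.2 ⟨q.out, rfl⟩⟩ : {t : G // IsConj g t})) ⟨?_, ?_⟩)).symm
  · intro a b he
    have he' : a.out * g * a.out⁻¹ = b.out * g * b.out⁻¹ := congrArg Subtype.val he
    rw [← QuotientGroup.out_eq' a, ← QuotientGroup.out_eq' b, QuotientGroup.eq]
    intro y hy
    rw [Set.mem_singleton_iff.1 hy]
    calc g * (a.out⁻¹ * b.out) = a.out⁻¹ * (a.out * g * a.out⁻¹) * b.out := by group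
      _ = a.out⁻¹ * (b.out * g * b.out⁻¹) * b.out := by rw [he']
      _ = a.out⁻¹ * b.out * g := by group
  · rintro ⟨t, ht⟩
    obtain ⟨k, hk⟩ := isConj_iff.1 ht
    refine ⟨(k : G ⧸ Subgroup.centralizer ({g} : Set G)), Subtype.ext ?_⟩
    obtain ⟨⟨d, hd⟩, he⟩ := QuotientGroup.mk_out_eq_mul (Subgroup.centralizer ({g} : Set G)) k
    show (k : G ⧸ Subgroup.centralizer ({g} : Set G)).out * g *
      (k : G ⧸ Subgroup.centralizer ({g} : Set G)).out⁻¹ = t
    rw [he]
    have hd' : g * d = d * g := hd g rfl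
    calc k * d * g * (k * d)⁻¹ = k * (d * g) * d⁻¹ * k⁻¹ := by group
      _ = t := by rw [← hd', ← hk]; group

namespace Cfg

variable {M : Subgroup G} {z : G} (c : Cfg M z)
include c

theorem fixed_point_conj {t : G} (ht : orderOf t = 2) {x : Pt M} (hx : t • x = x) : IsConj z t := by
  obtain ⟨k, rfl⟩ := QuotientGroup.mk_surjective x
  rw [← smul_base] at hx
  have hN : k⁻¹ * t * k ∈ nM M := smul_base_eq.1 (by rw [mul_smul, mul_smul, hx, inv_smul_smul])
  have ho : orderOf (k⁻¹ * t * k) = 2 := by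
    rw [show k⁻¹ * t * k = MulAut.conj k⁻¹ t by simp, MulEquiv.orderOf_eq, ht]
  obtain ⟨h1, h2⟩ := orderOf_eq_two_iff'.1 ho
  obtain ⟨x, hxM, he⟩ := c.inv_nM hN h1 h2
  obtain ⟨a, ha, haa⟩ := c.exists_sqrt hxM
  have h := c.zinverts (M.inv_mem ha)
  rw [inv_inv] at h
  refine isConj_iff.2 ⟨k * a, ?_⟩
  calc k * a * z * (k * a)⁻¹ = k * (a * (z * a⁻¹ * z) * z⁻¹) * k⁻¹ := by group
    _ = k * (x * z) * k⁻¹ := by rw [h, haa, c.zinv]
    _ = t := by rw [← he]; group

theorem conj_fixed {t : G} (h : IsConj z t) : ∃ x : Pt M, t • x = x := by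
  obtain ⟨k, hk⟩ := isConj_iff.1 h
  exact ⟨k • base M, by rw [← hk, ← mul_smul, show k * z * k⁻¹ * k = k * z by group, mul_smul,
    smul_base_eq.2 c.mem]⟩

theorem swapper_comm (β : Rz M z) {u : G} (hu : orderOf u = 2) (huα : u • base M = β.1) :
    u * z = z * u ∧ ∀ v ∈ hM M z, u * v * u = v⁻¹ := by
  refine ⟨?_, fun v hv => c.inverted hu β.2.1.symm huα (smul_base_eq.2 hv.1) ((c.stab_R β).2 hv).2⟩
  have h := c.inverted hu β.2.1.symm huα (smul_base_eq.2 c.mem) β.2.2
  rw [c.zinv] at h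
  calc u * z = u * z * (u * u) := by rw [(orderOf_eq_two_iff'.1 hu).2, mul_one]
    _ = u * z * u * u := by group
    _ = z * u := by rw [h]

variable (hR : 2 ≤ Nat.card (Rz M z))
include hR

theorem h_sq {v : G} (hv : v ∈ hM M z) : v * v = 1 := by
  obtain ⟨β, β', hne⟩ : ∃ β β' : Rz M z, β ≠ β' := by
    haveI : Nontrivial (Rz M z) := Finite.one_lt_card_iff_nontrivial.1 hR
    exact exists_pair_ne _
  obtain ⟨u, hu, huα, huβ, -⟩ := c.swapper β.2.1
  obtain ⟨u', hu', huα', huβ', -⟩ := c.swapper β'.2.1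
  obtain ⟨huz, hinv⟩ := c.swapper_comm β hu huα
  obtain ⟨huz', hinv'⟩ := c.swapper_comm β' hu' huα'
  obtain ⟨-, huu⟩ := orderOf_eq_two_iff'.1 hu
  obtain ⟨-, huu'⟩ := orderOf_eq_two_iff'.1 hu'
  have hne' : u' • β.1 ≠ base M := fun h => hne (Subtype.ext (by
    have := congrArg (u' • ·) h
    simp only [← mul_smul, huu', one_smul, huα'] at this
    exact this))
  have hzγ : z • (u' • β.1) = u' • β.1 := by rw [← mul_smul, ← huz', mul_smul, β.2.2]
  let γ : Rz M z := ⟨_, hne', hzγ⟩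
  obtain ⟨w, hw, hwα, hwβ, -⟩ := c.swapper γ.2.1
  obtain ⟨hwz, hinv''⟩ := c.swapper_comm γ hw hwα
  obtain ⟨-, hww⟩ := orderOf_eq_two_iff'.1 hw
  have hk : w * (u' * u) ∈ hM M z := by
    refine ⟨smul_base_eq.1 (by rw [mul_smul, mul_smul, huα]; exact hwβ), fun y hy => ?_⟩
    rw [Set.mem_singleton_iff.1 hy]
    calc z * (w * (u' * u)) = (w * z) * u' * u := by rw [hwz]; group
      _ = w * (u' * z) * u := by rw [huz']; group
      _ = w * u' * (u * z) := by rw [huz]; group
      _ = _ := by group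
  have hui : u⁻¹ = u := inv_eq_of_mul_eq_one_right huu
  have hui' : u'⁻¹ = u' := inv_eq_of_mul_eq_one_right huu'
  -- `u' u` centralizes `v`
  have h1 : (u' * u) * v * (u' * u)⁻¹ = v := by
    rw [mul_inv_rev, hui, hui']
    calc u' * u * v * (u * u') = u' * (u * v * u) * u' := by group
      _ = v := by rw [hinv v hv, hinv' v⁻¹ ((hM M z).inv_mem hv), inv_inv]
  have h2 : (u' * u) * v * (u' * u)⁻¹ = v⁻¹ := by
    set k := w * (u' * u) with hkdef
    have he : u' * u = w * k := by rw [hkdef, ← mul_assoc, hww, one_mul]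
    rw [he]
    calc w * k * v * (w * k)⁻¹ = w * (k * v * k⁻¹) * w⁻¹ := by group
      _ = w * v * w := by rw [c.h_abelian hk hv, mul_inv_cancel_right, inv_eq_of_mul_eq_one_right hww]
      _ = v⁻¹ := hinv'' v hv
  exact mul_eq_one_iff_eq_inv.2 (h1.symm.trans h2)

theorem h_eq {v : G} (hv : v ∈ hM M z) : v = 1 ∨ v = z := by
  by_cases h1 : v = 1
  · exact Or.inl h1
  obtain ⟨x, hx, he⟩ := c.inv_nM hv.1 h1 (c.h_sq hR hv)
  exact Or.inr (c.decomp_unique hx M.one_mem c.z_mem_h hv (by rw [one_mul]; exact he.symm)).2.symm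

theorem card_h : Nat.card (hM M z) = 2 := by
  rw [Nat.card_eq_two_iff]
  refine ⟨1, ⟨z, c.z_mem_h⟩, fun h => c.z_ne (congrArg Subtype.val h).symm, Set.eq_univ_of_forall
    fun v => ?_⟩
  rcases c.h_eq hR v.2 with h | h
  · exact Or.inl (Subtype.ext h)
  · exact Or.inr (Subtype.ext h)

theorem cent_sq {g : G} (hg : g ∈ Subgroup.centralizer ({z} : Set G)) : g * g = 1 := by
  by_cases hgN : g ∈ nM M
  · exact c.h_sq hR ⟨hgN, hg⟩
  have hne : g • base M ≠ base M := fun h => hgN (smul_base_eq.1 h)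
  have hfix : z • (g • base M) = g • base M := by
    rw [← mul_smul, hg z rfl, mul_smul, smul_base_eq.2 c.mem]
  obtain ⟨u, hu, huα, huβ, -⟩ := c.swapper hne
  obtain ⟨huz, hinv⟩ := c.swapper_comm ⟨_, hne, hfix⟩ hu huα
  obtain ⟨-, huu⟩ := orderOf_eq_two_iff'.1 hu
  have hug : u * g ∈ hM M z := by
    refine ⟨smul_base_eq.1 (by rw [mul_smul]; exact huβ), fun y hy => ?_⟩
    rw [Set.mem_singleton_iff.1 hy, ← mul_assoc, ← huz, mul_assoc, hg z rfl, mul_assoc]
  have he : g = u * (u * g) := by rw [← mul_assoc, huu, one_mul]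
  rw [he]
  calc u * (u * g) * (u * (u * g)) = (u * (u * g) * u) * (u * g) := by group
    _ = 1 := by rw [hinv _ hug, inv_mul_cancel]

theorem cent_comm {g k : G} (hg : g ∈ Subgroup.centralizer ({z} : Set G))
    (hk : k ∈ Subgroup.centralizer ({z} : Set G)) : g * k = k * g := by
  have h := c.cent_sq hR ((Subgroup.centralizer ({z} : Set G)).mul_mem hg hk)
  rw [← mul_inv_eq_one, mul_inv_rev, inv_eq_of_mul_eq_one_right (c.cent_sq hR hg),
    inv_eq_of_mul_eq_one_right (c.cent_sq hR hk)]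
  exact h

theorem card_cent_two :
    Nat.card (Subgroup.centralizer ({z} : Set G)) = 2 * (Nat.card (Rz M z) + 1) := by
  rw [c.card_cent, c.card_h hR, mul_comm]

theorem cent_two_group : IsPGroup 2 (Subgroup.centralizer ({z} : Set G)) := fun g =>
  ⟨1, Subtype.ext (by rw [pow_one, pow_two]; exact c.cent_sq hR g.2)⟩

theorem inv_count :
    Nat.card {g : G // orderOf g = 2} = Nat.card M * (2 * Nat.card (Rz M z) + 1) := by
  have h := c.count
  rw [c.card_h hR, c.index_m, c.card_h hR, c.card_pt] at h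
  nlinarith

/-- An element of odd order commuting with a nontrivial element of `M` lies in `M`. -/
theorem mem_of_commute {x y : G} (hx : x ∈ M) (h1 : x ≠ 1) (hy : Odd (orderOf y))
    (hc : y * x = x * y) : y ∈ M := by
  have hyN : y ∈ nM M := c.mem_nM hx h1 (by rw [hc, mul_inv_cancel_right]; exact hx)
  obtain ⟨x', hx', v, hv, rfl⟩ := c.decomp hyN
  rcases c.h_eq hR hv with rfl | rfl
  · rwa [mul_one]
  · rw [c.mz_inv hx'] at hy; exact absurd hy (by decide)

/-- An element of odd order is conjugate into `M` when its order is prime to the index of `M`. -/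
theorem odd_conj {y : G} (h1 : y ≠ 1) (hy : Odd (orderOf y))
    (hr : (orderOf y).Coprime M.index) : ∃ g : G, g * y * g⁻¹ ∈ M := by
  obtain ⟨r, hrp, hrd⟩ := Nat.exists_prime_and_dvd (fun h => h1 (orderOf_eq_one_iff.1 h))
  haveI : Fact r.Prime := ⟨hrp⟩
  have ho : orderOf (y ^ (orderOf y / r)) = r := orderOf_pow_orderOf_div (orderOf_pos y).ne' hrd
  have hP : IsPGroup r (Subgroup.zpowers (y ^ (orderOf y / r))) :=
    IsPGroup.of_card (n := 1) (by rw [Nat.card_zpowers, ho, pow_one])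
  have hnd : ¬ r ∣ Nat.card (G ⧸ M) := fun h => hrp.ne_one
    (Nat.eq_one_of_dvd_coprimes hr hrd (by rw [Subgroup.index_eq_card]; exact h))
  obtain ⟨q, hq⟩ := hP.nonempty_fixed_point_of_prime_not_dvd_card (G ⧸ M) hnd
  obtain ⟨g, rfl⟩ := QuotientGroup.mk_surjective q
  have hfix := hq ⟨_, Subgroup.mem_zpowers _⟩
  have hmem : g⁻¹ * y ^ (orderOf y / r) * g ∈ M := by
    have h' : ((y ^ (orderOf y / r) * g : G) : G ⧸ M) = (g : G ⧸ M) := hfix
    have := M.inv_mem (QuotientGroup.eq.1 h')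
    simpa [mul_assoc] using this
  have he : g⁻¹ * y * g = MulAut.conj g⁻¹ y := by simp
  have hp : g⁻¹ * y ^ (orderOf y / r) * g = (g⁻¹ * y * g) ^ (orderOf y / r) := by
    rw [he, ← map_pow]; simp
  refine ⟨g⁻¹, ?_⟩
  rw [inv_inv]
  refine c.mem_of_commute hR hmem (fun h => hrp.ne_one ?_) (by rwa [he, MulEquiv.orderOf_eq]) ?_
  · rw [← ho, orderOf_eq_one_iff]
    simpa [mul_assoc] using congrArg (fun e => g * e * g⁻¹) h
  · rw [hp]; exact Commute.self_pow _ _

end Cfg

end CfsgLib.TIInvol
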