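import Cfsg.Prelude.Def_Transfer
import Cfsg.Prelude.Def_Solvable
import Cfsg.Agent.Lib.TIInvol.Two
import Cfsg.Agent.Lib.TIInvol.Dih
import Cfsg.Agent.Lib.Baer.Basic
import Cfsg.Agent.Lib.Fitting.Basic
import Cfsg.Agent.Lib.FrobCompl.Noncyclic
import Cfsg.Agent.S1230
import Cfsg.Agent.S2503

/-!
# More than two cosets fixed by `z`: `L_2(2^e)` or a regular normal elementary abelian `2`-group

If all involutions are conjugate their centralizers are elementary abelian. Otherwise the product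
of a fixed point free involution with any conjugate of itself is a `2`-element, so the fixed point
free involutions lie in `O_2(G)`, which is regular.
-/

set_option autoImplicit false
set_option linter.style.haveILetI false
set_option linter.unusedSectionVars false

namespace CfsgLib.TIInvol

variable {G : Type*} [Group G] [Finite G]

/-- The last outcome. -/
def OutE (M : Subgroup G) : Prop :=
  ∃ (d : ℕ) (E : Subgroup G), 1 ≤ d ∧ E.Normal ∧ Cfsg.IsElementaryAbelian 2 E ∧
    Nat.card E = 2 ^ (2 * d) ∧ E ⊓ Subgroup.normalizer (M : Set G) = ⊥ ∧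
    E ⊔ Subgroup.normalizer (M : Set G) = ⊤ ∧
    Nonempty (↥(Subgroup.normalizer (M : Set G)) ≃* DihedralGroup (2 ^ d + 1))

/-- The outcome `L_2(2^e)`. -/
def OutL (M : Subgroup G) : Prop :=
  ∃ (F : Type) (_ : Field F) (_ : Fintype F) (e : ℕ), 1 < e ∧ Fintype.card F = 2 ^ e ∧ IsCyclic ↥M ∧
    Nat.card M = 2 ^ e + 1 ∧ Nonempty (G ≃* Matrix.ProjectiveSpecialLinearGroup (Fin 2) F)

namespace Cfg

variable {M : Subgroup G} {z : G} (c : Cfg M z) (hR : 2 ≤ Nat.card (Rz M z))
include c hR

theorem one_lt_card : 1 < Nat.card M := M.one_lt_card_iff_ne_bot.2 c.ne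

theorem conj_count :
    Nat.card {t : G // IsConj z t} * (Nat.card (Rz M z) + 1) = Nat.card (Pt M) * Nat.card M := by
  have h := (Subgroup.centralizer ({z} : Set G)).index_mul_card
  rw [← card_isConj, c.card_cent_two hR, c.card_group, c.card_h hR] at h
  exact Nat.eq_of_mul_eq_mul_left two_pos (by linarith [h])

theorem all_conj (hall : ∀ t : G, orderOf t = 2 → IsConj z t) : OutL M := by
  classical
  set r := Nat.card (Rz M z) with hr
  set m := Nat.card M with hm
  have hconj : ∀ t : G, orderOf t = 2 ↔ IsConj z t := fun t => ⟨hall t, fun h => by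
    obtain ⟨k, rfl⟩ := isConj_iff.1 h
    rw [← MulAut.conj_apply, MulEquiv.orderOf_eq, c.ord]⟩
  have hK : Nat.card {t : G // IsConj z t} = m * (2 * r + 1) := by
    rw [← c.inv_count hR]; exact Nat.card_congr (Equiv.subtypeEquivRight fun t => (hconj t).symm)
  have hn : Nat.card (Pt M) = (2 * r + 1) * (r + 1) := by
    have h := c.conj_count hR
    rw [hK] at h
    exact (Nat.eq_of_mul_eq_mul_left (Nat.card_pos (α := M)) (by linarith [h])).symm
  have hm3 : m = 2 * r + 3 := by
    have h := c.card_pt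
    rw [hn] at h
    exact Nat.eq_of_mul_eq_mul_right (show 0 < r by omega) (by nlinarith [h])
  -- the centralizer of an involution
  have hcent : ∀ t : G, orderOf t = 2 →
      Nat.card (Subgroup.centralizer ({t} : Set G)) = 2 * (r + 1) ∧
      ∀ g ∈ Subgroup.centralizer ({t} : Set G), g * g = 1 := by
    intro t ht
    obtain ⟨k, rfl⟩ := isConj_iff.1 (hall t ht)
    have hmap : Subgroup.centralizer ({k * z * k⁻¹} : Set G) =
        (Subgroup.centralizer ({z} : Set G)).map (MulAut.conj k).toMonoidHom := by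
      ext g
      rw [Subgroup.mem_map]
      constructor
      · intro hg
        refine ⟨k⁻¹ * g * k, fun y hy => ?_, by simp [mul_assoc]⟩
        rw [Set.mem_singleton_iff.1 hy]
        calc z * (k⁻¹ * g * k) = k⁻¹ * ((k * z * k⁻¹) * g) * k := by group
          _ = k⁻¹ * g * k * z := by rw [hg _ rfl]; group
      · rintro ⟨a, ha, rfl⟩ y hy
        rw [Set.mem_singleton_iff.1 hy]
        show k * z * k⁻¹ * (k * a * k⁻¹) = k * a * k⁻¹ * (k * z * k⁻¹)
        calc k * z * k⁻¹ * (k * a * k⁻¹) = k * (z * a) * k⁻¹ := by group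
          _ = _ := by rw [ha z rfl]; group
    rw [hmap]
    refine ⟨by rw [Subgroup.card_map_of_injective (MulAut.conj k).injective, c.card_cent_two hR], ?_⟩
    rintro _ ⟨a, ha, rfl⟩
    rw [← map_mul, c.cent_sq hR ha, map_one]
  haveI : Fact (Nat.Prime 2) := ⟨Nat.prime_two⟩
  obtain ⟨T, hT⟩ := (c.cent_two_group hR).exists_le_sylow
  have hcT : Nat.card (T : Subgroup G) = 2 * (r + 1) := by
    refine le_antisymm ?_ (c.card_cent_two hR ▸ Subgroup.card_le_of_le hT)
    haveI : Nontrivial (T : Subgroup G) :=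
      ⟨⟨z, hT (fun y hy => by rw [Set.mem_singleton_iff.1 hy])⟩, 1, fun h => c.z_ne (congrArg Subtype.val h)⟩
    haveI := T.2.center_nontrivial
    obtain ⟨i, hi0, hi⟩ :=
      (T.2.to_subgroup (Subgroup.center (T : Subgroup G))).nontrivial_iff_card.mp inferInstance
    obtain ⟨w, hw⟩ := exists_prime_orderOf_dvd_card' (G := Subgroup.center (T : Subgroup G)) 2
      (hi ▸ dvd_pow_self 2 hi0.ne')
    have ht : orderOf (((w : (T : Subgroup G))) : G) = 2 := by
      rw [Subgroup.orderOf_coe, Subgroup.orderOf_coe, hw]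
    rw [← (hcent _ ht).1]
    refine Subgroup.card_le_of_le fun g hg y hy => ?_
    rw [Set.mem_singleton_iff.1 hy]
    exact (congrArg Subtype.val (Subgroup.mem_center_iff.1 w.2 ⟨g, hg⟩)).symm
  have hTeq : Subgroup.centralizer ({z} : Set G) = T :=
    Subgroup.eq_of_le_of_card_ge hT (by rw [hcT, c.card_cent_two hR])
  have hnc : ¬ IsCyclic (T : Subgroup G) := by
    intro h
    obtain ⟨g, hg⟩ := h.exists_generator
    have h2 : orderOf g ∣ 2 := orderOf_dvd_of_pow_eq_one (Subtype.ext (by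
      rw [pow_two]
      exact c.cent_sq hR (show (g : G) ∈ Subgroup.centralizer ({z} : Set G) by rw [hTeq]; exact g.2)))
    rw [orderOf_eq_card_of_forall_mem_zpowers hg, hcT] at h2
    have := Nat.le_of_dvd two_pos h2
    omega
  have hnn : ¬ (T : Subgroup G).Normal := by
    intro hn'
    obtain ⟨⟨x, hx⟩, hx1⟩ := Subgroup.ne_bot_iff_exists_ne_one.1 c.ne
    have hzT : z ∈ (T : Subgroup G) := hTeq ▸ fun y hy => by rw [Set.mem_singleton_iff.1 hy]
    obtain ⟨k, hk⟩ := isConj_iff.1 (hall _ (c.mz_inv hx))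
    have hxz : x * z ∈ (T : Subgroup G) := by
      have h := hn'.conj_mem z hzT k
      rwa [hk] at h
    have hxT : x ∈ (T : Subgroup G) := by
      have := mul_mem hxz hzT
      rwa [mul_assoc, c.zz, mul_one] at this
    exact hx1 (Subtype.ext (sq_eq_one_of_odd (c.odd_ord hx)
      (c.cent_sq hR (hTeq ▸ hxT))))
  obtain ⟨F, instF, finF, hF, ⟨iso⟩⟩ := Cfsg.Agent.S1230.result T hnc hnn (fun t ht => by
    refine ⟨⟨⟨fun a b => Subtype.ext ?_⟩⟩, fun a ha => by rw [pow_two]; exact (hcent t ht).2 a ha⟩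
    show (a : G) * b = b * a
    have h := (hcent t ht).2 _ (mul_mem a.2 b.2)
    rw [← mul_inv_eq_one, mul_inv_rev, inv_eq_of_mul_eq_one_right ((hcent t ht).2 _ a.2),
      inv_eq_of_mul_eq_one_right ((hcent t ht).2 _ b.2)]
    exact h)
  letI := instF
  letI := finF
  obtain ⟨e, he⟩ := IsPGroup.iff_card.1 T.2
  have hF2 : Fintype.card F = 2 * (r + 1) := by rw [hF, hcT]
  have he' : 2 * (r + 1) = 2 ^ e := hcT.symm.trans he
  obtain ⟨A, -, hA, hAc, -⟩ := Cfsg.Agent.S2503.result (F := F) (by rw [hF2]; exact dvd_mul_right 2 _)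
    (by rw [hF2]; omega)
  haveI := hA
  obtain ⟨a, ha⟩ := IsCyclic.exists_generator (α := A)
  have hao : orderOf (iso.symm (a : Matrix.ProjectiveSpecialLinearGroup (Fin 2) F)) = m := by
    rw [MulEquiv.orderOf_eq, Subgroup.orderOf_coe, orderOf_eq_card_of_forall_mem_zpowers ha, hAc, hF2,
      hm3]
    ring
  obtain ⟨g, hg⟩ := c.odd_conj hR (y := iso.symm (a : Matrix.ProjectiveSpecialLinearGroup (Fin 2) F))
    (fun h => by rw [h, orderOf_one] at hao; omega) (by rw [hao]; exact c.odd_card) (by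
      rw [hao, c.index_m, c.card_h hR, hn, hm3, mul_assoc]
      refine Nat.Coprime.mul_right ?_ ?_
      · rw [show 2 * r + 3 = 2 + (2 * r + 1) by ring, Nat.coprime_add_self_left]
        exact Nat.coprime_two_left.2 ⟨r, rfl⟩
      · rw [show 2 * r + 3 = 1 + (r + 1) * 2 by ring, Nat.coprime_add_self_left]
        exact Nat.coprime_one_left _)
  refine ⟨F, instF, finF, e, ?_, hF2.trans he', ?_, by rw [← he']; omega, ⟨iso⟩⟩
  · by_contra hle
    have : 2 ^ e ≤ 2 ^ 1 := Nat.pow_le_pow_right two_pos (by omega)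
    omega
  · refine isCyclic_of_orderOf_eq_card (⟨_, hg⟩ : M) ?_
    rw [Subgroup.orderOf_mk, ← MulAut.conj_apply, MulEquiv.orderOf_eq, hao]

theorem some_fpf (hsome : ∃ t : G, orderOf t = 2 ∧ ¬ IsConj z t) : OutE M := by
  classical
  haveI : Fintype G := Fintype.ofFinite G
  haveI : Fact (Nat.Prime 2) := ⟨Nat.prime_two⟩
  set r := Nat.card (Rz M z) with hr
  set m := Nat.card M with hm
  set n := Nat.card (Pt M) with hn
  set K := Nat.card {t : G // IsConj z t} with hK
  let F := {t : G // orderOf t = 2 ∧ ¬ IsConj z t}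
  have hF : 0 < Nat.card F := by
    haveI : Nonempty F := ⟨⟨hsome.choose, hsome.choose_spec⟩⟩
    exact Nat.card_pos
  have hsum : m * (2 * r + 1) = K + Nat.card F := by
    rw [← c.inv_count hR, hK, ← Nat.card_sum]
    refine Nat.card_congr (Equiv.ofBijective (fun t =>
      if h : IsConj z t.1 then Sum.inl ⟨t.1, h⟩ else Sum.inr ⟨t.1, t.2, h⟩) ⟨?_, ?_⟩)
    · intro a b he
      refine Subtype.ext ?_
      dsimp only at he
      by_cases ha : IsConj z a.1 <;> by_cases hb : IsConj z b.1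
      · rw [dif_pos ha, dif_pos hb] at he
        have h := Sum.inl.inj he
        simpa using h
      · rw [dif_pos ha, dif_neg hb] at he
        exact absurd he Sum.inl_ne_inr
      · rw [dif_neg ha, dif_pos hb] at he
        exact absurd he Sum.inr_ne_inl
      · rw [dif_neg ha, dif_neg hb] at he
        have h := Sum.inr.inj he
        simpa only [Subtype.mk.injEq, F] using h
    · rintro (⟨t, ht⟩ | ⟨t, ht, ht'⟩)
      · obtain ⟨k, rfl⟩ := isConj_iff.1 ht
        exact ⟨⟨_, by rw [← MulAut.conj_apply, MulEquiv.orderOf_eq, c.ord]⟩, dif_pos ht⟩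
      · exact ⟨⟨t, ht⟩, dif_neg ht'⟩
  obtain ⟨j, hj⟩ := IsPGroup.iff_card.1 (c.cent_two_group hR)
  rw [c.card_cent_two hR, ← hr] at hj
  obtain ⟨d, rfl⟩ : ∃ d, j = d + 1 := ⟨j - 1, by
    have : j ≠ 0 := fun h => by rw [h, pow_zero] at hj; omega
    omega⟩
  have hQ : r + 1 = 2 ^ d := by rw [pow_succ] at hj; omega
  have hd1 : 2 ≤ d := by
    by_contra h
    have : 2 ^ d ≤ 2 ^ 1 := Nat.pow_le_pow_right two_pos (by omega)
    omega
  have hKQ : K * (r + 1) = n * m := c.conj_count hR
  have hpt : n = m * r + 1 := c.card_pt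
  have hm1 : 1 < m := c.one_lt_card hR
  obtain ⟨k, hk⟩ : r + 1 ∣ m - 1 := by
    have hc : (r + 1).Coprime m := by
      rw [hQ]; exact Nat.Coprime.pow_left _ (Nat.coprime_two_left.2 c.odd_card)
    have h1 : r + 1 ∣ n := hc.dvd_of_dvd_mul_right ⟨K, by linarith [hKQ]⟩
    have h2 : n + (m - 1) = m * (r + 1) := by rw [hpt, mul_add, mul_one]; omega
    exact (Nat.dvd_add_right h1).1 (h2 ▸ dvd_mul_left _ _)
  have hk1 : k = 1 := by
    have h0 : k ≠ 0 := fun h => by rw [h, mul_zero] at hk; omega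
    by_contra h
    have h2 : 2 ≤ k := by omega
    have hm' : 2 * (r + 1) + 1 ≤ m := by
      have := Nat.mul_le_mul_left (r + 1) h2
      omega
    have hlt : K < m * (2 * r + 1) := by omega
    have h3 : n * m < m * (2 * r + 1) * (r + 1) := hKQ ▸ Nat.mul_lt_mul_of_pos_right hlt (by omega)
    have h4 : n < (2 * r + 1) * (r + 1) := by
      refine Nat.lt_of_mul_lt_mul_right (a := m) ?_
      linarith [h3]
    have h5 : (2 * (r + 1) + 1) * r ≤ m * r := Nat.mul_le_mul_right r hm'
    rw [hpt] at h4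
    nlinarith [h4, h5]
  rw [hk1, mul_one] at hk
  have hmQ : m = r + 2 := by omega
  have hnQ : n = (r + 1) * (r + 1) := by rw [hpt, hmQ]; ring
  have hKm : K = (r + 1) * m := Nat.eq_of_mul_eq_mul_right (show 0 < r + 1 by omega)
    (by rw [hKQ, hnQ]; ring)
  have hFn : Nat.card F + 1 = n := by rw [hpt]; rw [hKm] at hsum; nlinarith [hsum]
  -- elements of odd order
  have hidx : M.index = 2 ^ (2 * d + 1) := by
    rw [c.index_m, c.card_h hR, ← hn, hnQ, hQ, pow_succ, two_mul, pow_add]
  -- fixed point free involutions lie in `O_2`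
  set E := Cfsg.pCore 2 G
  have hFE : ∀ t : G, orderOf t = 2 → ¬ IsConj z t → t ∈ E := by
    intro t ht htz
    obtain ⟨-, htt⟩ := orderOf_eq_two_iff'.1 ht
    have hti : t⁻¹ = t := inv_eq_of_mul_eq_one_right htt
    have hz2 : IsPGroup 2 (Subgroup.zpowers t) :=
      IsPGroup.of_card (n := 1) (by rw [Nat.card_zpowers, ht, pow_one])
    by_contra hE
    obtain ⟨g, hg⟩ := CfsgLib.Baer.exists_conj_not_isPGroup hz2 fun N hN hNp h =>
      hE (CfsgLib.Fitting.le_pCore hN hNp h)
    apply hg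
    set t' := g * t * g⁻¹
    have htt' : t' * t' = 1 := by
      show g * t * g⁻¹ * (g * t * g⁻¹) = 1
      rw [show g * t * g⁻¹ * (g * t * g⁻¹) = g * (t * t) * g⁻¹ by group, htt, mul_one, mul_inv_cancel]
    have hti' : t'⁻¹ = t' := inv_eq_of_mul_eq_one_right htt'
    set x := t * t' with hx
    have hinv : MulAut.conj t x = x⁻¹ := by
      rw [MulAut.conj_apply, hti, hx, mul_inv_rev, hti', hti, ← mul_assoc, htt, one_mul]
    obtain ⟨i, q, hq, ho⟩ := Nat.exists_eq_pow_mul_and_not_dvd (orderOf_pos x).ne' 2 (by norm_num)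
    have hq1 : q = 1 := by
      by_contra hne
      have hyo : orderOf (x ^ 2 ^ i) = q := by
        rw [orderOf_pow' x (pow_ne_zero i two_ne_zero), ho, Nat.gcd_eq_right (dvd_mul_right _ _),
          Nat.mul_div_cancel_left _ (by positivity)]
      have hodd : Odd q := Nat.odd_iff.2 (by omega)
      set y := x ^ 2 ^ i with hy
      obtain ⟨a, ha⟩ := c.odd_conj hR (y := y)
        (fun h => hne (by rw [← hyo, h, orderOf_one])) (by rw [hyo]; exact hodd)
        (by rw [hyo, hidx]; exact Nat.Coprime.pow_right _ (Nat.coprime_two_right.2 hodd))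
      have hty : t * y * t⁻¹ = y⁻¹ := by
        rw [← MulAut.conj_apply, hy, map_pow, hinv, inv_pow]
      have hN : a * t * a⁻¹ ∈ nM M := by
        refine c.mem_nM ha (fun h => hne ?_) ?_
        · rw [← hyo, conj_eq_one_iff.1 h, orderOf_one]
        · rw [show a * t * a⁻¹ * (a * y * a⁻¹) * (a * t * a⁻¹)⁻¹ = a * (t * y * t⁻¹) * a⁻¹ by group, hty]
          have := M.inv_mem ha
          simpa [mul_assoc] using this
      refine htz (c.fixed_point_conj ht (x := a⁻¹ • base M) ?_)
      have := smul_base_eq.2 hN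
      rw [mul_smul, mul_smul, smul_eq_iff_eq_inv_smul] at this
      exact this
    rw [hq1, mul_one] at ho
    have hpx : IsPGroup 2 (Subgroup.zpowers x) :=
      IsPGroup.of_card (n := i) (by rw [Nat.card_zpowers, ho])
    refine (hz2.to_sup_of_normal_right' hpx ?_).to_le ?_
    · refine Subgroup.zpowers_le.2 (Subgroup.mem_normalizer_iff.2 fun y => ?_)
      have hmap : ∀ y ∈ Subgroup.zpowers x, MulAut.conj t y ∈ Subgroup.zpowers x := by
        rintro y ⟨l, rfl⟩
        exact ⟨-l, by show x ^ (-l) = MulAut.conj t (x ^ l); rw [map_zpow, hinv, inv_zpow, zpow_neg]⟩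
      refine ⟨fun hy => hmap y hy, fun hy => ?_⟩
      have := hmap _ hy
      simpa [mul_assoc, hti, htt, ← mul_assoc t t] using this
    · refine (Subgroup.closure_le _).2 ?_
      rintro w (rfl | rfl)
      · exact Subgroup.mem_sup_left (Subgroup.mem_zpowers _)
      · have : t' = t * x := by rw [hx, ← mul_assoc, htt, one_mul]
        rw [this]
        exact mul_mem (Subgroup.mem_sup_left (Subgroup.mem_zpowers _))
          (Subgroup.mem_sup_right (Subgroup.mem_zpowers _))
  haveI hEn : E.Normal := CfsgLib.Fitting.pCore_normal 2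
  have hEp : IsPGroup 2 E := CfsgLib.Fitting.pCore_isPGroup 2
  have htwo : ∀ e ∈ E, Odd (orderOf e) → e = 1 := by
    intro e he ho
    obtain ⟨i, hi⟩ := hEp ⟨e, he⟩
    have hdvd : orderOf e ∣ 2 ^ i := orderOf_dvd_of_pow_eq_one (congrArg Subtype.val hi)
    exact orderOf_eq_one_iff.1 (Nat.eq_one_of_dvd_coprimes
      (Nat.Coprime.pow_right i (Nat.coprime_two_right.2 ho)) dvd_rfl hdvd)
  have hcomm : ∀ e ∈ E, ∀ x ∈ M, x ≠ 1 → e * x = x * e → e = 1 := fun e he x hx h1 h => by
    refine htwo e he ((c.odd x hx h1).of_dvd_nat (Subgroup.orderOf_dvd_natCard _ ?_))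
    intro y hy
    rw [Set.mem_singleton_iff.1 hy]; exact h.symm
  have hEN : E ⊓ nM M = ⊥ := by
    rw [eq_bot_iff]
    rintro e ⟨heE, heN⟩
    obtain ⟨⟨x, hx⟩, hx1⟩ := Subgroup.ne_bot_iff_exists_ne_one.1 c.ne
    refine Subgroup.mem_bot.2 (hcomm e heE x hx (fun h => hx1 (Subtype.ext h)) ?_)
    have h1 : e * x * e⁻¹ * x⁻¹ ∈ M := M.mul_mem (c.conj_mem heN hx) (M.inv_mem hx)
    have h2 : e * x * e⁻¹ * x⁻¹ ∈ E := by
      rw [mul_assoc, mul_assoc]
      refine E.mul_mem heE ?_
      rw [← mul_assoc]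
      exact hEn.conj_mem _ (E.inv_mem heE) x
    exact mul_inv_eq_iff_eq_mul.1 (mul_inv_eq_one.1 (htwo _ h2 (c.odd_ord h1)))
  let π : E → Pt M := fun e => ((e : G) : G ⧸ nM M)
  have hπ : Function.Injective π := fun a b he => Subtype.ext (inv_mul_eq_one.1
    (Subgroup.mem_bot.1 (hEN ▸ ⟨E.mul_mem (E.inv_mem a.2) b.2, QuotientGroup.eq.1 he⟩)))
  let ι : Option F → E := fun o => o.elim 1 fun t => ⟨t.1, hFE _ t.2.1 t.2.2⟩
  have hι : Function.Injective ι := by
    rintro (_ | a) (_ | b) he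
    · rfl
    · exact absurd (congrArg Subtype.val he).symm (orderOf_eq_two_iff'.1 b.2.1).1
    · exact absurd (congrArg Subtype.val he) (orderOf_eq_two_iff'.1 a.2.1).1
    · exact congrArg some (Subtype.ext (show a.1 = b.1 from congrArg (fun e : E => (e : G)) he))
  have hEn' : Nat.card E = n := by
    refine le_antisymm (Nat.card_le_card_of_injective π hπ) ?_
    rw [← hFn, ← Finite.card_option]
    exact Nat.card_le_card_of_injective ι hι
  have hsq : ∀ e ∈ E, e * e = 1 := by
    intro e he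
    have hb : Function.Bijective ι :=
      (Nat.bijective_iff_injective_and_card _).2 ⟨hι, by rw [Finite.card_option, hFn, hEn']⟩
    obtain ⟨o, ho⟩ := hb.2 ⟨e, he⟩
    rcases o with _ | t
    · rw [show e = 1 from (congrArg Subtype.val ho).symm, one_mul]
    · rw [show e = t.1 from (congrArg Subtype.val ho).symm]
      exact (orderOf_eq_two_iff'.1 t.2.1).2
  haveI hEc : IsMulCommutative E := ⟨⟨fun a b => Subtype.ext (by
    show (a : G) * b = b * a
    rw [← mul_inv_eq_one, mul_inv_rev, inv_eq_of_mul_eq_one_right (hsq _ a.2),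
      inv_eq_of_mul_eq_one_right (hsq _ b.2)]
    exact hsq _ (mul_mem a.2 b.2))⟩⟩
  haveI : IsMulCommutative M := ⟨⟨fun a b => Subtype.ext (c.comm a.2 b.2)⟩⟩
  have hcyc : IsCyclic M := by
    refine CfsgLib.FrobCompl.isCyclic_of_comm (V := E) (fun h => ?_)
      (fun g _ => by rw [Subgroup.normalizer_eq_top]; trivial) fun x hx h1 => ?_
    · rw [h, Subgroup.card_bot] at hEn'; omega
    · rw [eq_bot_iff]
      rintro e ⟨he, hec⟩
      exact Subgroup.mem_bot.2 (hcomm e he x hx h1 (hec x rfl).symm)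
  refine ⟨d, E, by omega, hEn, ⟨hEc, fun e he => by rw [pow_two]; exact hsq e he⟩,
    by rw [hEn', hnQ, hQ, ← pow_add, two_mul], hEN, eq_top_iff.2 fun g _ => ?_,
    c.nM_dihedral hcyc (fun v hv => c.h_eq hR hv) (by rw [← hQ, ← hm, hmQ])⟩
  obtain ⟨e, he⟩ := ((Nat.bijective_iff_injective_and_card π).2 ⟨hπ, hEn'⟩).2 (g : G ⧸ nM M)
  have := QuotientGroup.eq.1 he
  rw [show g = (e : G) * ((e : G)⁻¹ * g) by group]
  exact Subgroup.mul_mem_sup e.2 this

theorem big_outcome : OutL M ∨ OutE M := by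
  by_cases hall : ∀ t : G, orderOf t = 2 → IsConj z t
  · exact Or.inl (c.all_conj hR hall)
  · push Not at hall
    exact Or.inr (c.some_fpf hR hall)

end Cfg

end CfsgLib.TIInvol
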