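import Cfsg.Prelude.Def_LieExceptional
import Cfsg.Agent.Lib.TIInvol.Big
import Cfsg.Agent.Lib.Perm.SharplyThree
import Cfsg.Agent.S0738
import Cfsg.Agent.S0741
import Cfsg.Agent.S0742

/-!
# Exactly two cosets fixed by `z`

Then `G` is doubly transitive and only the identity fixes three cosets. Without a regular normal
subgroup it is a Zassenhaus group with two-point stabilizers of even order, so `PGL_2` or `PSL_2`.
-/

set_option autoImplicit false
set_option linter.style.haveILetI false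
set_option linter.unusedSectionVars false

namespace CfsgLib.TIInvol

variable {G : Type*} [Group G] [Finite G]

/-- The outcome `PGL_2(q)` or `L_2(q)`. -/
def OutQ (M : Subgroup G) : Prop :=
  ∃ (F : Type) (_ : Field F) (_ : Fintype F) (p : ℕ) (_ : Fact p.Prime) (_ : CharP F p),
    Fintype.card F = Nat.card M ∧ Cfsg.IsElementaryAbelian p M ∧
      (Nonempty (G ≃* (GL (Fin 2) F ⧸ Subgroup.center (GL (Fin 2) F))) ∨
        (Fintype.card F % 4 = 1 ∧ Nonempty (G ≃* Matrix.ProjectiveSpecialLinearGroup (Fin 2) F)))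

namespace Cfg

variable {M : Subgroup G} {z : G} (c : Cfg M z)
include c

theorem three_le_card : 3 ≤ Nat.card M := by
  have h1 : 1 < Nat.card M := M.one_lt_card_iff_ne_bot.2 c.ne
  obtain ⟨k, hk⟩ := c.odd_card
  omega

variable (hR : Nat.card (Rz M z) = 1)
include hR

theorem unique_fix (β : Rz M z) {γ : Pt M} (hγ : γ ≠ base M) (hz : z • γ = γ) : γ = β.1 := by
  haveI := (Nat.card_eq_one_iff_unique.1 hR).1
  exact congrArg Subtype.val (Subsingleton.elim (⟨γ, hγ, hz⟩ : Rz M z) β)

theorem card_pt_one : Nat.card (Pt M) = Nat.card M + 1 := by rw [c.card_pt, hR, mul_one]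

theorem trans_m {x y : Pt M} (hx : x ≠ base M) (hy : y ≠ base M) : ∃! a : M, (a : G) • x = y := by
  classical
  haveI : Fintype (Pt M) := Fintype.ofFinite _
  let f : M → {β : Pt M // β ≠ base M} := fun a => ⟨(a : G) • x, c.smul_ne_base (c.m_le a.2) hx⟩
  have hf : Function.Injective f := by
    intro a b he
    have he' : (a : G) • x = (b : G) • x := congrArg (fun e => e.1) he
    refine Subtype.ext (inv_mul_eq_one.1 (c.semireg (M.mul_mem (M.inv_mem a.2) b.2) hx ?_))
    rw [mul_smul, ← he', inv_smul_smul]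
  have hcard : Nat.card M = Nat.card {β : Pt M // β ≠ base M} := by
    have h := c.card_pt_one hR
    rw [Nat.card_eq_fintype_card] at h
    rw [Nat.card_eq_fintype_card (α := {β : Pt M // β ≠ base M}), Fintype.card_subtype_compl,
      Fintype.card_subtype_eq]
    omega
  obtain ⟨a, ha⟩ := ((Nat.bijective_iff_injective_and_card f).2 ⟨hf, hcard⟩).2 ⟨y, hy⟩
  have ha' : (a : G) • x = y := congrArg (fun e => e.1) ha
  exact ⟨a, ha', fun b hb => hf (Subtype.ext (hb.trans ha'.symm))⟩

theorem two_pre : MulAction.IsMultiplyPretransitive G (Pt M) 2 := by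
  rw [MulAction.is_two_pretransitive_iff]
  intro a b a' b' hab hab'
  obtain ⟨ga, rfl⟩ := QuotientGroup.mk_surjective a
  obtain ⟨gc, rfl⟩ := QuotientGroup.mk_surjective a'
  rw [← smul_base] at hab hab'
  have h1 : ga⁻¹ • b ≠ base M := fun h => hab (by rw [← h, smul_inv_smul])
  have h2 : gc⁻¹ • b' ≠ base M := fun h => hab' (by rw [← h, smul_inv_smul])
  obtain ⟨x, hx, -⟩ := c.trans_m hR h1 h2
  refine ⟨gc * x * ga⁻¹, ?_, ?_⟩
  · rw [← smul_base, ← smul_base, mul_smul, inv_smul_smul, mul_smul, smul_base_eq.2 (c.m_le x.2)]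
  · rw [mul_smul, mul_smul, hx, smul_inv_smul]

theorem three (g : G) (a b d : Pt M) (hab : a ≠ b) (hbd : b ≠ d) (had : a ≠ d) (ha : g • a = a)
    (hb : g • b = b) (hd : g • d = d) : g = 1 := by
  obtain ⟨β, hβ, hzβ⟩ : Rz M z := ((Nat.card_eq_one_iff_unique.1 hR).2).some
  obtain ⟨k, rfl⟩ := QuotientGroup.mk_surjective a
  rw [← smul_base] at hab had ha
  have h1 : k⁻¹ • b ≠ base M := fun h => hab (by rw [← h, smul_inv_smul])
  obtain ⟨x, hx, -⟩ := c.trans_m hR hβ h1
  set t := k * (x : G) with ht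
  set g' := t⁻¹ * g * t with hg'
  set γ := t⁻¹ • d with hγdef
  have htb : t • base M = k • base M := by rw [ht, mul_smul, smul_base_eq.2 (c.m_le x.2)]
  have htβ : t • β = b := by rw [ht, mul_smul, hx, smul_inv_smul]
  have hfix : ∀ w : Pt M, g • (t • w) = t • w → g' • w = w := fun w hw => by
    rw [hg', mul_smul, mul_smul, hw, inv_smul_smul]
  have hgα : g' • base M = base M := hfix _ (by rw [htb, ha])
  have hgβ : g' • β = β := hfix _ (by rw [htβ, hb])
  have hgγ : g' • γ = γ := hfix _ (by rw [hγdef, smul_inv_smul, hd])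
  have hγα : γ ≠ base M := fun h => had (by rw [← htb, ← h, hγdef, smul_inv_smul])
  have hγβ : γ ≠ β := fun h => hbd (by rw [← htβ, ← h, hγdef, smul_inv_smul])
  have hgh : g' ∈ hM M z := (c.stab_R ⟨β, hβ, hzβ⟩).1 ⟨smul_base_eq.1 hgα, hgβ⟩
  have hzγ : γ ≠ z • γ := fun h => hγβ (c.unique_fix hR ⟨β, hβ, hzβ⟩ hγα h.symm)
  have hgz : g' • (z • γ) = z • γ := by
    rw [← mul_smul, ← c.h_comm hgh, mul_smul, hgγ]
  have hinv := c.inverted c.ord hzγ rfl hgγ hgz
  have hgg : g' * g' = 1 := by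
    have : z * g' * z = g' := by rw [c.h_comm hgh, mul_assoc, c.zz, mul_one]
    rw [this] at hinv
    nth_rewrite 1 [hinv]
    rw [inv_mul_cancel]
  have hg1 : g' = 1 := by
    by_contra h1
    obtain ⟨y, hy, he⟩ := c.inv_nM hgh.1 h1 hgg
    have := (c.decomp_unique hy M.one_mem c.z_mem_h hgh (by rw [one_mul]; exact he.symm)).2
    rw [← this] at hgγ
    exact hzγ hgγ.symm
  calc g = t * g' * t⁻¹ := by rw [hg']; group
    _ = 1 := by rw [hg1, mul_one, mul_inv_cancel]

theorem exists_third {a b : Pt M} : ∃ d : Pt M, d ≠ a ∧ d ≠ b := by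
  classical
  haveI : Fintype (Pt M) := Fintype.ofFinite _
  by_contra h
  push Not at h
  have h3 := c.card_pt_one hR
  have hle : Nat.card (Pt M) ≤ 2 := by
    rw [Nat.card_eq_fintype_card, ← Finset.card_univ]
    refine le_trans (Finset.card_le_card (t := {a, b}) fun d _ => ?_) Finset.card_le_two
    rw [Finset.mem_insert, Finset.mem_singleton]
    exact (em (d = a)).imp_right (h d)
  have := c.three_le_card
  omega

theorem faithful : FaithfulSMul G (Pt M) := ⟨fun {g k} h => by
  obtain ⟨β, hβ, -⟩ : Rz M z := ((Nat.card_eq_one_iff_unique.1 hR).2).some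
  obtain ⟨d, hd1, hd2⟩ := c.exists_third hR (a := base M) (b := β)
  have h0 : ∀ w : Pt M, (k⁻¹ * g) • w = w := fun w => by rw [mul_smul, h w, inv_smul_smul]
  exact (inv_mul_eq_one.1 (c.three hR _ _ _ _ hβ.symm hd2.symm hd1.symm (h0 _) (h0 _) (h0 _))).symm⟩

/-- The two-point stabilizer acts semiregularly on the other points. -/
theorem h_dvd (β : Rz M z) : ∃ q, 1 ≤ q ∧ Nat.card (hM M z) * q + 1 = Nat.card M ∧
    (q = 1 → ∀ γ δ : Pt M, γ ≠ base M → γ ≠ β.1 → δ ≠ base M → δ ≠ β.1 →
      ∃ v ∈ hM M z, v • γ = δ) := by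
  classical
  haveI : Fintype (Pt M) := Fintype.ofFinite _
  let S := {w : Pt M // w ≠ base M ∧ w ≠ β.1}
  have hmem : ∀ (v : hM M z) (w : S), (v : G) • w.1 ≠ base M ∧ (v : G) • w.1 ≠ β.1 := fun v w =>
    ⟨c.smul_ne_base v.2.1 w.2.1, fun h => w.2.2 (MulAction.injective (v : G)
      (h.trans ((c.stab_R β).2 v.2).2.symm))⟩
  letI : MulAction (hM M z) S :=
    { smul := fun v w => ⟨(v : G) • w.1, hmem v w⟩
      one_smul := fun w => Subtype.ext (one_smul G w.1)
      mul_smul := fun u v w => Subtype.ext (mul_smul (u : G) (v : G) w.1) }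
  have hfree : ∀ w : S, MulAction.stabilizer (hM M z) w = ⊥ := fun w => by
    rw [eq_bot_iff]
    intro v hv
    refine Subgroup.mem_bot.2 (Subtype.ext (c.three hR _ (base M) β.1 w.1 β.2.1.symm w.2.2.symm
      w.2.1.symm (smul_base_eq.2 v.2.1) ((c.stab_R β).2 v.2).2 ?_))
    exact congrArg Subtype.val hv
  have he := Nat.card_congr (MulAction.selfEquivOrbitsQuotientProd hfree)
  rw [Nat.card_prod] at he
  have hS : Nat.card S + 1 = Nat.card M := by
    have h := c.card_pt_one hR
    rw [Nat.card_eq_fintype_card] at h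
    have h2 : Fintype.card S = ({base M, β.1} : Finset (Pt M))ᶜ.card := by
      refine Fintype.card_of_subtype _ fun w => ?_
      simp
    rw [Finset.card_compl, Finset.card_pair β.2.1.symm] at h2
    rw [Nat.card_eq_fintype_card, h2]
    have := c.three_le_card
    omega
  refine ⟨Nat.card (MulAction.orbitRel.Quotient (hM M z) S), ?_, by rw [mul_comm, ← he]; exact hS, ?_⟩
  · rcases Nat.eq_zero_or_pos (Nat.card (MulAction.orbitRel.Quotient (hM M z) S)) with h | h
    · rw [h, zero_mul] at he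
      have := c.three_le_card
      omega
    · exact h
  · intro hq γ δ hγ hγ' hδ hδ'
    haveI := (Nat.card_eq_one_iff_unique.1 hq).1
    have h : (Quotient.mk'' (⟨δ, hδ, hδ'⟩ : S) : MulAction.orbitRel.Quotient (hM M z) S) =
        Quotient.mk'' ⟨γ, hγ, hγ'⟩ := Subsingleton.elim _ _
    obtain ⟨v, hv⟩ := MulAction.orbitRel_apply.1 (Quotient.eq''.1 h)
    exact ⟨v, v.2, congrArg Subtype.val hv⟩

theorem regular_normal (β : Rz M z) {N : Subgroup G} (hN : N.Normal)
    (htr : MulAction.IsPretransitive N (Pt M)) (hfr : ∀ a : Pt M, MulAction.stabilizer N a = ⊥) :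
    OutE M := by
  classical
  let π : N → Pt M := fun e => (e : G) • base M
  have hπi : Function.Injective π := fun a b he => by
    have hm : a⁻¹ * b ∈ MulAction.stabilizer N (base M) := by
      show ((a⁻¹ * b : N) : G) • base M = base M
      have he' : (a : G) • base M = (b : G) • base M := he
      rw [Subgroup.coe_mul, Subgroup.coe_inv, mul_smul, ← he', inv_smul_smul]
    rw [hfr, Subgroup.mem_bot] at hm
    exact inv_mul_eq_one.1 hm
  have hπs : Function.Surjective π := fun w => htr.exists_smul_eq (base M) w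
  have hcard : Nat.card N = Nat.card (Pt M) := Nat.card_congr (Equiv.ofBijective π ⟨hπi, hπs⟩)
  have hne : ∀ e ∈ N, e ≠ 1 → e • base M ≠ base M := fun e he h1 h => h1 (congrArg Subtype.val
    (hπi (a₁ := ⟨e, he⟩) (a₂ := 1) (h.trans (one_smul G (base M)).symm)))
  have hconjπ : ∀ y ∈ nM M, ∀ e : G, (y * e * y⁻¹) • base M = y • (e • base M) := fun y hy e => by
    rw [mul_smul, mul_smul, smul_base_eq.2 ((nM M).inv_mem hy)]
  have hsq : ∀ e ∈ N, e * e = 1 := by
    intro e he
    by_cases h1 : e = 1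
    · rw [h1, one_mul]
    haveI : Fact (Nat.Prime 2) := ⟨Nat.prime_two⟩
    obtain ⟨i, hi⟩ := exists_prime_orderOf_dvd_card' (G := N) 2 (by
      rw [hcard, c.card_pt_one hR]
      obtain ⟨k, hk⟩ := c.odd_card
      exact ⟨k + 1, by omega⟩)
    rw [← Subgroup.orderOf_coe] at hi
    obtain ⟨hi1, hi2⟩ := orderOf_eq_two_iff'.1 hi
    obtain ⟨x, hx, -⟩ := c.trans_m hR (hne i i.2 hi1) (hne e he h1)
    have he' : (x : G) * (i : G) * (x : G)⁻¹ = e := congrArg Subtype.val
      (hπi (a₁ := ⟨_, hN.conj_mem _ i.2 (x : G)⟩) (a₂ := ⟨e, he⟩)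
        (by show ((x : G) * (i : G) * (x : G)⁻¹) • base M = e • base M
            rw [hconjπ _ (c.m_le x.2), hx]))
    rw [← he', show (x : G) * i * (x : G)⁻¹ * (x * i * (x : G)⁻¹) = x * (i * i) * (x : G)⁻¹ by group,
      hi2, mul_one, mul_inv_cancel]
  have hcomm : ∀ a ∈ N, ∀ b ∈ N, a * b = b * a := fun a ha b hb => by
    rw [← mul_inv_eq_one, mul_inv_rev, inv_eq_of_mul_eq_one_right (hsq a ha),
      inv_eq_of_mul_eq_one_right (hsq b hb)]
    exact hsq _ (N.mul_mem ha hb)
  -- the map `e ↦ e (z e z)`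
  have hzN : ∀ e ∈ N, z * e * z ∈ N := fun e he => by
    have := hN.conj_mem e he z
    rwa [c.zinv] at this
  let f : N →* N := MonoidHom.mk' (fun e => ⟨e * (z * e * z), N.mul_mem e.2 (hzN e e.2)⟩)
    fun a b => Subtype.ext (by
      show (a * b : G) * (z * (a * b) * z) = a * (z * a * z) * (b * (z * b * z))
      calc (a * b : G) * (z * (a * b) * z) = a * (b * (z * a * z)) * (z⁻¹ * b * z) := by group
        _ = a * (z * a * z * b) * (z⁻¹ * b * z) := by rw [hcomm b b.2 _ (hzN a a.2)]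
        _ = _ := by rw [c.zinv]; group)
  let C := {e : N | z * (e : G) * z = e}
  have hC : C.ncard ≤ 2 := by
    have hmaps : ∀ e ∈ C, π e ∈ ({base M, β.1} : Set (Pt M)) := fun e he => by
      by_cases hb : π e = base M
      · exact Or.inl hb
      refine Or.inr (c.unique_fix hR β hb ?_)
      show z • ((e : G) • base M) = (e : G) • base M
      rw [← hconjπ _ c.mem, c.zinv, (he : z * (e : G) * z = e)]
    refine le_trans (Set.ncard_le_ncard_of_injOn π hmaps hπi.injOn (Set.toFinite _)) ?_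
    exact le_trans (Set.ncard_insert_le _ _) (by rw [Set.ncard_singleton])
  have hker : Nat.card f.ker ≤ 2 := by
    refine le_trans (le_of_eq (Nat.card_coe_set_eq (f.ker : Set N))) (le_trans (Set.ncard_le_ncard
      (fun e he => ?_) (Set.toFinite _)) hC)
    have h : (e : G) * (z * e * z) = 1 := congrArg Subtype.val (MonoidHom.mem_ker.1 he)
    show z * (e : G) * z = e
    calc z * (e : G) * z = (e : G)⁻¹ := eq_inv_of_mul_eq_one_right h
      _ = e := inv_eq_of_mul_eq_one_right (hsq _ e.2)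
  have hrange : Nat.card f.range ≤ 2 := by
    refine le_trans (le_of_eq (Nat.card_coe_set_eq (f.range : Set N))) (le_trans (Set.ncard_le_ncard
      (fun e he => ?_) (Set.toFinite _)) hC)
    obtain ⟨a, rfl⟩ := he
    show z * ((a : G) * (z * a * z)) * z = a * (z * a * z)
    calc z * ((a : G) * (z * a * z)) * z = z * a * z * a * (z * z) := by group
      _ = z * a * z * a := by rw [c.zz, mul_one]
      _ = a * (z * a * z) := (hcomm a a.2 _ (hzN a a.2)).symm
  have h4 : Nat.card N ≤ 4 := by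
    rw [← f.ker.card_mul_index, Subgroup.index_ker]
    exact le_trans (Nat.mul_le_mul hker hrange) le_rfl
  have hm : Nat.card M = 3 := by
    have := c.three_le_card
    rw [hcard, c.card_pt_one hR] at h4
    omega
  obtain ⟨q, hq1, hq, -⟩ := c.h_dvd hR β
  have hh : ∀ v ∈ hM M z, v = 1 ∨ v = z := by
    intro v hv
    have hle : Nat.card (hM M z) ≤ 2 := by
      have := Nat.le_mul_of_pos_right (Nat.card (hM M z)) hq1
      omega
    by_contra hno
    push Not at hno
    have h3 : ({⟨1, (hM M z).one_mem⟩, ⟨z, c.z_mem_h⟩, ⟨v, hv⟩} : Finset (hM M z)).card = 3 := by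
      rw [Finset.card_eq_three]
      exact ⟨_, _, _, fun h => c.z_ne (congrArg Subtype.val h).symm,
        fun h => hno.1 (congrArg Subtype.val h).symm,
        fun h => hno.2 (congrArg Subtype.val h).symm, rfl⟩
    haveI : Fintype (hM M z) := Fintype.ofFinite _
    have := Finset.card_le_univ ({⟨1, (hM M z).one_mem⟩, ⟨z, c.z_mem_h⟩, ⟨v, hv⟩} : Finset (hM M z))
    rw [h3, ← Nat.card_eq_fintype_card] at this
    omega
  haveI : Fact (Nat.Prime 3) := ⟨Nat.prime_three⟩
  refine ⟨1, N, le_rfl, hN, ⟨⟨⟨fun a b => Subtype.ext (hcomm a a.2 b b.2)⟩⟩,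
    fun e he => by rw [pow_two]; exact hsq e he⟩, by rw [hcard, c.card_pt_one hR, hm]; norm_num,
    eq_bot_iff.2 fun e he => Subgroup.mem_bot.2 (by_contra fun h1 => hne e he.1 h1
      (smul_base_eq.2 he.2)),
    eq_top_iff.2 fun g _ => ?_, c.nM_dihedral (isCyclic_of_prime_card hm) hh (by rw [hm]; norm_num)⟩
  obtain ⟨e, he⟩ := hπs (g • base M)
  rw [show g = (e : G) * ((e : G)⁻¹ * g) by group]
  refine Subgroup.mul_mem_sup e.2 (smul_base_eq.1 ?_)
  rw [mul_smul, ← (he : (e : G) • base M = g • base M), inv_smul_smul]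

theorem one_outcome : OutQ M ∨ OutE M := by
  classical
  obtain ⟨β⟩ : Nonempty (Rz M z) := (Nat.card_eq_one_iff_unique.1 hR).2
  by_cases hreg : ∃ N : Subgroup G, N.Normal ∧ MulAction.IsPretransitive N (Pt M) ∧
      ∀ a : Pt M, MulAction.stabilizer N a = ⊥
  · obtain ⟨N, h1, h2, h3⟩ := hreg
    exact Or.inr (c.regular_normal hR β h1 h2 h3)
  left
  push Not at hreg
  haveI : Fintype (Pt M) := Fintype.ofFinite _
  have hfaith := c.faithful hR
  have hZ : Cfsg.IsZassenhausGroup G (Pt M) := ⟨hfaith, c.two_pre hR, c.three hR,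
    ⟨z, c.z_ne, base M, β.1, β.2.1.symm, smul_base_eq.2 c.mem, β.2.2⟩, fun N hN ht => hreg N hN ht⟩
  have hst : MulAction.stabilizer G (base M) ⊓ MulAction.stabilizer G β.1 = hM M z := by
    ext g
    rw [Subgroup.mem_inf, MulAction.mem_stabilizer_iff, MulAction.mem_stabilizer_iff, smul_base_eq]
    exact c.stab_R β
  have hpt : Fintype.card (Pt M) = Nat.card M + 1 := by
    rw [← Nat.card_eq_fintype_card, c.card_pt_one hR]
  have heven : Even (Nat.card (hM M z)) :=
    even_iff_two_dvd.2 (c.ord ▸ Subgroup.orderOf_dvd_natCard _ c.z_mem_h)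
  obtain ⟨q, hq1, hq, hqtr⟩ := c.h_dvd hR β
  have h3 := c.three_le_card
  have hbound := Cfsg.Agent.S0741.result hZ (a := base M) (b := β.1) β.2.1.symm (by rw [hst]; exact heven)
  rw [hst, hpt] at hbound
  have hMle : M ≤ MulAction.stabilizer G (base M) := fun x hx => smul_base_eq.2 (c.m_le hx)
  obtain ⟨hab, p, f, hp, hpow, hcardp⟩ := Cfsg.Agent.S0738.result hZ (a := base M) (b := β.1) β.2.1.symm
    (by rw [hst, hpt]; exact hbound) M hMle
    ((Subgroup.normal_subgroupOf_iff hMle).2 fun x g hx hg => c.conj_mem (smul_base_eq.1 hg) hx)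
    (fun y w hy hw => c.trans_m hR hy hw)
  have hel : Cfsg.IsElementaryAbelian p M := ⟨hab, hpow⟩
  have hmp : Nat.card M = p ^ f := by omega
  haveI hpf : Fact p.Prime := ⟨hp⟩
  have hq2 : q ≤ 2 := by
    have hh : 0 < Nat.card (hM M z) := Nat.card_pos
    exact Nat.le_of_mul_le_mul_left (show Nat.card (hM M z) * q ≤ Nat.card (hM M z) * 2 by omega) hh
  interval_cases q
  · -- sharply triply transitive
    let ρ := MulAction.toPermHom G (Pt M)
    have hρ : Function.Injective ρ := fun g k h => hfaith.eq_of_smul_eq_smul fun w => by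
      exact Equiv.congr_fun h w
    let eρ : G ≃* ρ.range := MonoidHom.ofInjective hρ
    have hev : ∀ (g : G) (w : Pt M), (eρ g : ρ.range) • w = g • w := fun g w => rfl
    haveI := c.two_pre hR
    have hnorm : ∀ a b d : Pt M, a ≠ b → a ≠ d → b ≠ d → ∀ γ : Pt M, γ ≠ base M → γ ≠ β.1 →
        ∃ g : G, g • base M = a ∧ g • β.1 = b ∧ g • γ = d := by
      intro a b d hab had hbd γ hγ hγ'
      obtain ⟨g, hga, hgb⟩ := MulAction.is_two_pretransitive_iff.1 (c.two_pre hR) β.2.1.symm hab
      obtain ⟨v, hv, hvd⟩ := hqtr rfl γ (g⁻¹ • d) hγ hγ'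
        (fun h => had (by rw [← hga, ← h, smul_inv_smul]))
        (fun h => hbd (by rw [← hgb, ← h, smul_inv_smul]))
      exact ⟨g * v, by rw [mul_smul, smul_base_eq.2 hv.1, hga],
        by rw [mul_smul, ((c.stab_R β).2 hv).2, hgb], by rw [mul_smul, hvd, smul_inv_smul]⟩
    obtain ⟨γ, hγ, hγ'⟩ := c.exists_third hR (a := base M) (b := β.1)
    have h3t : MulAction.IsMultiplyPretransitive ρ.range (Pt M) 3 := by
      constructor
      intro s t
      have hs : ∀ i j : Fin 3, i ≠ j → s i ≠ s j := fun i j h => s.injective.ne h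
      have ht : ∀ i j : Fin 3, i ≠ j → t i ≠ t j := fun i j h => t.injective.ne h
      obtain ⟨g, g0, g1, g2⟩ := hnorm _ _ _ (hs 0 1 (by decide)) (hs 0 2 (by decide))
        (hs 1 2 (by decide)) γ hγ hγ'
      obtain ⟨k, k0, k1, k2⟩ := hnorm _ _ _ (ht 0 1 (by decide)) (ht 0 2 (by decide))
        (ht 1 2 (by decide)) γ hγ hγ'
      refine ⟨eρ (k * g⁻¹), Function.Embedding.ext fun i => ?_⟩
      show (k * g⁻¹) • s i = t i
      rw [mul_smul]
      fin_cases i
      · show k • g⁻¹ • s 0 = t 0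
        rw [← g0, inv_smul_smul, k0]
      · show k • g⁻¹ • s 1 = t 1
        rw [← g1, inv_smul_smul, k1]
      · show k • g⁻¹ • s 2 = t 2
        rw [← g2, inv_smul_smul, k2]
    have hsharp : ∀ x : Fin 3 ↪ Pt M, MulAction.stabilizer ρ.range x = ⊥ := fun x => by
      rw [eq_bot_iff]
      intro g' hg'
      obtain ⟨g, rfl⟩ := eρ.surjective g'
      have hfix : ∀ i, g • x i = x i := fun i =>
        congrArg (fun e : Fin 3 ↪ Pt M => e i) (MulAction.mem_stabilizer_iff.1 hg')
      rw [c.three hR g (x 0) (x 1) (x 2) (x.injective.ne (by decide)) (x.injective.ne (by decide))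
        (x.injective.ne (by decide)) (hfix 0) (hfix 1) (hfix 2), map_one]
      exact Subgroup.one_mem _
    have hcomm : ∀ g h : ρ.range, g • base M = base M → g • β.1 = β.1 → h • base M = base M →
        h • β.1 = β.1 → g * h = h * g := by
      intro g' h' a1 a2 b1 b2
      obtain ⟨g, rfl⟩ := eρ.surjective g'
      obtain ⟨h, rfl⟩ := eρ.surjective h'
      rw [hev] at a1 a2 b1 b2
      rw [← map_mul, ← map_mul, c.h_abelian ((c.stab_R β).1 ⟨smul_base_eq.1 a1, a2⟩)
        ((c.stab_R β).1 ⟨smul_base_eq.1 b1, b2⟩)]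
    obtain ⟨F, iF, fF, hF, ⟨iso⟩⟩ := Cfsg.Agent.Lib.Perm.SharplyThree.exists_pgl h3t hsharp (by omega)
      β.2.1.symm hγ.symm hγ'.symm hcomm
    letI := iF
    letI := fF
    have hFm : Fintype.card F = Nat.card M := by omega
    exact ⟨F, iF, fF, p, hpf, charP_of_card_eq_prime_pow (hFm.trans hmp), hFm, hel,
      Or.inl ⟨eρ.trans iso⟩⟩
  · obtain ⟨p', f', K, iK, fK, hp', -, hK, hpt', ⟨iso⟩⟩ := Cfsg.Agent.S0742.result hZ (a := base M)
      (b := β.1) β.2.1.symm (by rw [hst]; exact heven) (by rw [hst, hpt]; omega)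
    letI := iK
    letI := fK
    have hKm : Fintype.card K = Nat.card M := by omega
    obtain ⟨j, hj⟩ := heven
    exact ⟨K, iK, fK, p, hpf, charP_of_card_eq_prime_pow (hKm.trans hmp), hKm, hel,
      Or.inr ⟨by omega, ⟨iso⟩⟩⟩

end Cfg

end CfsgLib.TIInvol
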