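import Cfsg.Agent.Lib.TIInvol.Swap

/-!
# The action on the cosets of `N`

`M` is semiregular away from the base coset, every other coset is a translate by `M` of one fixed by
`z`, and the stabilizer of the base coset and of one fixed by `z` is `C_N(z)`.
-/

set_option autoImplicit false
set_option linter.style.haveILetI false
set_option linter.unusedSectionVars false

namespace CfsgLib.TIInvol

variable {G : Type*} [Group G] [Finite G]

/-- The cosets of `N`. -/
abbrev Pt (M : Subgroup G) : Type _ := G ⧸ nM M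

/-- The base coset. -/
abbrev base (M : Subgroup G) : Pt M := ((1 : G) : G ⧸ nM M)

theorem smul_base_eq {M : Subgroup G} {g : G} : g • base M = base M ↔ g ∈ nM M := by
  rw [base, MulAction.Quotient.smul_coe, smul_eq_mul, mul_one, QuotientGroup.eq, mul_one,
    Subgroup.inv_mem_iff]

theorem smul_base (M : Subgroup G) (g : G) : g • base M = (g : G ⧸ nM M) := by
  rw [base, MulAction.Quotient.smul_coe, smul_eq_mul, mul_one]

/-- The fixed cosets of `z` other than the base coset. -/
abbrev Rz (M : Subgroup G) (z : G) : Type _ := {β : Pt M // β ≠ base M ∧ z • β = β}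

namespace Cfg

variable {M : Subgroup G} {z : G} (c : Cfg M z)
include c

theorem swapper {β : Pt M} (hβ : β ≠ base M) :
    ∃ u : G, orderOf u = 2 ∧ u • base M = β ∧ u • β = base M ∧ u ∉ nM M := by
  obtain ⟨g, rfl⟩ := QuotientGroup.mk_surjective β
  have hg : g ∉ nM M := fun h => hβ (by rw [← smul_base]; exact smul_base_eq.2 h)
  obtain ⟨t, ht, hm⟩ := c.exu hg
  have he : t • base M = (g : G ⧸ nM M) := by
    rw [smul_base]; exact (QuotientGroup.eq.2 (c.m_le hm)).symm
  refine ⟨t, ht, he, ?_, fun h => hβ ?_⟩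
  · rw [← he, ← mul_smul, (orderOf_eq_two_iff'.1 ht).2, one_smul]
  · rw [← he]; exact smul_base_eq.2 h

theorem stab_iff {u g : G} (huu : u * u = 1) :
    u * g * u ∈ nM M ↔ g • (u • base M) = u • base M := by
  have hui : u⁻¹ = u := inv_eq_of_mul_eq_one_right huu
  rw [← smul_base_eq, mul_smul, mul_smul, smul_eq_iff_eq_inv_smul, hui]

theorem semireg {x : G} (hx : x ∈ M) {β : Pt M} (hβ : β ≠ base M) (h : x • β = β) : x = 1 := by
  obtain ⟨u, hu, huα, -, huN⟩ := c.swapper hβ
  refine (c.inverted_facts hu huN).1 x hx ((c.stab_iff (orderOf_eq_two_iff'.1 hu).2).2 ?_)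
  rw [huα, h]

theorem inverted {u g : G} (hu : orderOf u = 2) {x y : Pt M} (hxy : x ≠ y) (huxy : u • x = y)
    (hgx : g • x = x) (hgy : g • y = y) : u * g * u = g⁻¹ := by
  obtain ⟨k, rfl⟩ := QuotientGroup.mk_surjective x
  rw [← smul_base] at hxy huxy hgx
  have hconj : ∀ a : G, k⁻¹ * a * k = MulAut.conj k⁻¹ a := fun a => by simp
  set u' := k⁻¹ * u * k with hu'
  set g' := k⁻¹ * g * k with hg'
  have hu2 : orderOf u' = 2 := by rw [hu', hconj, MulEquiv.orderOf_eq, hu]
  have hgN : g' ∈ nM M := smul_base_eq.1 (by rw [hg', mul_smul, mul_smul, hgx, inv_smul_smul])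
  have huN : u' ∉ nM M := fun h => hxy (by
    have := smul_base_eq.2 h
    rw [hu', mul_smul, mul_smul, huxy, inv_smul_eq_iff] at this
    exact this.symm)
  have hug : u' * g' * u' ∈ nM M := by
    rw [c.stab_iff (orderOf_eq_two_iff'.1 hu2).2]
    simp only [hu', hg', mul_smul, smul_inv_smul, huxy, hgy]
  have := (c.inverted_facts hu2 huN).2.1 g' hgN hug
  calc u * g * u = k * (u' * g' * u') * k⁻¹ := by rw [hu', hg']; group
    _ = g⁻¹ := by rw [this, hg']; group

/-- The stabilizer of the base coset and of a coset fixed by `z`. -/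
theorem stab_R (β : Rz M z) {g : G} : g ∈ nM M ∧ g • β.1 = β.1 ↔ g ∈ hM M z := by
  obtain ⟨u, hu, huα, -, huN⟩ := c.swapper β.2.1
  obtain ⟨-, huu⟩ := orderOf_eq_two_iff'.1 hu
  have hzb : z • base M = base M := smul_base_eq.2 c.mem
  have hcent : ∀ d : G, d ∈ nM M → d • β.1 = β.1 → d ∈ hM M z := by
    intro d hd hdβ
    have hdb := smul_base_eq.2 hd
    have h1 := c.inverted hu β.2.1.symm huα hdb hdβ
    have h2 := c.inverted hu β.2.1.symm huα hzb β.2.2
    have h3 := c.inverted hu β.2.1.symm huα (g := d * z) (by rw [mul_smul, hzb, hdb])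
      (by rw [mul_smul, β.2.2, hdβ])
    have h4 : u * (d * z) * u = (u * d * u) * (u * z * u) := by
      calc u * (d * z) * u = u * d * (u * u) * z * u := by rw [huu]; group
        _ = _ := by group
    rw [h4, h1, h2, ← mul_inv_rev, inv_inj] at h3
    exact ⟨hd, fun y hy => by rw [Set.mem_singleton_iff.1 hy]; exact h3⟩
  refine ⟨fun h => hcent g h.1 h.2, fun hg => ⟨hg.1, ?_⟩⟩
  obtain ⟨x, hx, he⟩ := (c.inverted_facts hu huN).2.2 g hg
  have hd : x * g ∈ nM M := (nM M).mul_mem (c.m_le hx) hg.1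
  have hdβ : (x * g) • β.1 = β.1 := by
    rw [← huα, ← c.stab_iff huu, he]; exact (nM M).inv_mem hd
  have h1 : x = 1 := (c.decomp_unique hx M.one_mem hg (hcent _ hd hdβ) (one_mul _).symm).1
  rw [h1, one_mul] at hdβ
  exact hdβ

theorem exists_sqrt {x : G} (hx : x ∈ M) : ∃ a ∈ M, a * a = x := by
  obtain ⟨k, hk⟩ := c.odd_ord hx
  refine ⟨x ^ (k + 1), M.pow_mem hx _, ?_⟩
  rw [← pow_add, show k + 1 + (k + 1) = (2 * k + 1) + 1 by ring, ← hk, pow_succ, pow_orderOf_eq_one,
    one_mul]

theorem exists_mz_fix {β : Pt M} (hβ : β ≠ base M) : ∃ x ∈ M, (x * z) • β = β := by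
  obtain ⟨u, hu, huα, -, huN⟩ := c.swapper hβ
  obtain ⟨x, hx, he⟩ := (c.inverted_facts hu huN).2.2 z c.z_mem_h
  refine ⟨x, hx, ?_⟩
  rw [← huα, ← c.stab_iff (orderOf_eq_two_iff'.1 hu).2, he]
  exact (nM M).inv_mem ((nM M).mul_mem (c.m_le hx) c.mem)

theorem smul_ne_base {g : G} (hg : g ∈ nM M) {β : Pt M} (hβ : β ≠ base M) : g • β ≠ base M := fun h =>
  hβ (MulAction.injective g (h.trans (smul_base_eq.2 hg).symm))

theorem card_pt : Nat.card (Pt M) = Nat.card M * Nat.card (Rz M z) + 1 := by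
  classical
  haveI : Fintype (Pt M) := Fintype.ofFinite _
  have h : Nat.card (M × Rz M z) = Nat.card {β : Pt M // β ≠ base M} := by
    refine Nat.card_congr (Equiv.ofBijective
      (fun p => ⟨(p.1 : G) • p.2.1, c.smul_ne_base (c.m_le p.1.2) p.2.2.1⟩) ⟨?_, ?_⟩)
    · rintro ⟨x, β⟩ ⟨x', β'⟩ he
      have he' : (x : G) • β.1 = (x' : G) • β'.1 := congrArg (fun e => e.1) he
      set y := (x' : G)⁻¹ * x with hy
      have hyM : y ∈ M := M.mul_mem (M.inv_mem x'.2) x.2
      have hyb : y • β.1 = β'.1 := by rw [hy, mul_smul, he', inv_smul_smul]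
      have hzy : y⁻¹ • β.1 = β'.1 := by
        rw [← c.zinverts hyM, mul_smul, mul_smul, β.2.2, hyb, β'.2.2]
      have hy1 : y = 1 := sq_eq_one_of_odd (c.odd_ord hyM) (c.semireg (M.mul_mem hyM hyM) β.2.1
        (by rw [mul_smul, hyb, ← hzy, smul_inv_smul]))
      have hxx : x' = x := Subtype.ext (inv_mul_eq_one.1 hy1)
      subst hxx
      rw [Prod.mk.injEq]
      exact ⟨rfl, Subtype.ext (MulAction.injective (x' : G) he')⟩
    · rintro ⟨β, hβ⟩
      obtain ⟨x, hx, hfix⟩ := c.exists_mz_fix hβ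
      obtain ⟨a, ha, haa⟩ := c.exists_sqrt hx
      have hcz : a * z * a⁻¹ = x * z := by
        have h := c.zinverts (M.inv_mem ha)
        rw [inv_inv] at h
        rw [← haa, mul_assoc, mul_assoc]
        congr 1
        calc z * a⁻¹ = z * a⁻¹ * (z * z) := by rw [c.zz, mul_one]
          _ = z * a⁻¹ * z * z := by group
          _ = a * z := by rw [h]
      have hz' : z • (a⁻¹ • β) = a⁻¹ • β := by
        conv_rhs => rw [← hfix, ← hcz, mul_smul, mul_smul, inv_smul_smul]
      exact ⟨⟨⟨a, ha⟩, ⟨a⁻¹ • β, c.smul_ne_base ((nM M).inv_mem (c.m_le ha)) hβ, hz'⟩⟩,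
        Subtype.ext (smul_inv_smul a β)⟩
  rw [Nat.card_prod] at h
  rw [h, Nat.card_eq_fintype_card, Nat.card_eq_fintype_card, Fintype.card_subtype_compl,
    Fintype.card_subtype_eq]
  have : 0 < Fintype.card (Pt M) := Fintype.card_pos_iff.2 ⟨base M⟩
  omega

theorem R_pos : 0 < Nat.card (Rz M z) := by
  by_contra h
  push Not at h
  have hc := c.card_pt
  rw [Nat.le_zero.1 h, mul_zero, zero_add] at hc
  obtain ⟨g, hg⟩ := c.exists_notMem
  haveI : Subsingleton (Pt M) := (Nat.card_eq_one_iff_unique.1 hc).1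
  exact hg (smul_base_eq.1 (Subsingleton.elim _ _))

theorem card_nM : Nat.card (nM M) = Nat.card M * Nat.card (hM M z) := by
  rw [← Nat.card_prod]
  refine (Nat.card_congr (Equiv.ofBijective
    (fun p : M × hM M z => (⟨p.1.1 * p.2.1, (nM M).mul_mem (c.m_le p.1.2) p.2.2.1⟩ : nM M))
    ⟨?_, ?_⟩)).symm
  · rintro ⟨x, v⟩ ⟨x', v'⟩ he
    have := c.decomp_unique x.2 x'.2 v.2 v'.2 (congrArg Subtype.val he)
    exact Prod.ext (Subtype.ext this.1) (Subtype.ext this.2)
  · rintro ⟨g, hg⟩
    obtain ⟨x, hx, v, hv, rfl⟩ := c.decomp hg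
    exact ⟨⟨⟨x, hx⟩, ⟨v, hv⟩⟩, rfl⟩

theorem index_m : M.index = Nat.card (Pt M) * Nat.card (hM M z) := by
  have h1 : Nat.card (Pt M) * Nat.card (nM M) = Nat.card G := by
    rw [← Subgroup.index_eq_card, Subgroup.index_mul_card]
  have h2 := M.index_mul_card
  rw [← h1, c.card_nM] at h2
  exact Nat.eq_of_mul_eq_mul_right Nat.card_pos (h2.trans (by ring))

theorem card_group : Nat.card G = Nat.card (Pt M) * (Nat.card M * Nat.card (hM M z)) := by
  rw [← c.card_nM, ← Subgroup.index_eq_card, Subgroup.index_mul_card]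

theorem card_cent :
    Nat.card (Subgroup.centralizer ({z} : Set G)) = (Nat.card (Rz M z) + 1) * Nat.card (hM M z) := by
  classical
  set C := Subgroup.centralizer ({z} : Set G)
  have horb : MulAction.orbit C (base M) = {β : Pt M | z • β = β} := by
    ext β
    constructor
    · rintro ⟨⟨g, hg⟩, rfl⟩
      show z • (g • base M) = g • base M
      rw [← mul_smul, hg z rfl, mul_smul, smul_base_eq.2 c.mem]
    · intro hβ
      by_cases hb : β = base M
      · rw [hb]; exact MulAction.mem_orbit_self _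
      obtain ⟨u, hu, huα, -, -⟩ := c.swapper hb
      obtain ⟨-, huu⟩ := orderOf_eq_two_iff'.1 hu
      have h := c.inverted hu (Ne.symm hb) huα (smul_base_eq.2 c.mem) hβ
      refine ⟨⟨u, fun y hy => ?_⟩, huα⟩
      rw [Set.mem_singleton_iff.1 hy]
      rw [c.zinv] at h
      calc z * u = u * z * u * u := by rw [h]
        _ = u * z := by rw [mul_assoc, huu, mul_one]
  have hst : Nat.card (MulAction.stabilizer C (base M)) = Nat.card (hM M z) :=
    Nat.card_congr ⟨fun g => ⟨g.1.1, smul_base_eq.1 (show (g.1 : G) • base M = base M from g.2), g.1.2⟩,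
      fun v => ⟨⟨v.1, v.2.2⟩, show (v : G) • base M = base M from smul_base_eq.2 v.2.1⟩,
      fun g => rfl, fun v => rfl⟩
  have hn : (MulAction.orbit C (base M)).ncard = Nat.card (Rz M z) + 1 := by
    rw [horb, show {β : Pt M | z • β = β} = insert (base M) {β : Pt M | β ≠ base M ∧ z • β = β} from ?_,
      Set.ncard_insert_of_notMem (fun h => h.1 rfl) (Set.toFinite _), ← Nat.card_coe_set_eq]
    · rfl
    ext β
    simp only [Set.mem_setOf_eq, Set.mem_insert_iff]
    refine ⟨fun h => (em _).imp id fun hb => ⟨hb, h⟩, ?_⟩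
    rintro (rfl | h)
    · exact smul_base_eq.2 c.mem
    · exact h.2
  rw [← hn, ← hst, ← MulAction.index_stabilizer, Subgroup.index_mul_card]

end Cfg

end CfsgLib.TIInvol
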