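import Cfsg.Agent.Lib.TIInvol.Basic

/-!
# The involutions swapping two cosets of `N`

Two cosets of `N` are exchanged by exactly `|C_N(z)|` involutions and each of them inverts the
stabilizer of the two cosets, which is abelian and meets `M` trivially.
-/

set_option autoImplicit false
set_option linter.style.haveILetI false
set_option linter.unusedSectionVars false

namespace CfsgLib.TIInvol

variable {G : Type*} [Group G] [Finite G]

namespace Cfg

variable {M : Subgroup G} {z : G} (c : Cfg M z)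
include c

theorem exu {g : G} (hg : g ∉ nM M) : ∃ t : G, orderOf t = 2 ∧ g⁻¹ * t ∈ M := c.key.1 g hg

theorem h_lt : Nat.card (hM M z) < Nat.card M := c.key.2.1

theorem count : Nat.card {g : G // orderOf g = 2} + Nat.card (hM M z) = M.index + Nat.card M :=
  c.key.2.2

theorem mul_h_notMem {g v : G} (hg : g ∉ nM M) (hv : v ∈ nM M) : g * v ∉ nM M := fun h => hg (by
  simpa using (nM M).mul_mem h ((nM M).inv_mem hv))

theorem exists_notMem : ∃ g : G, g ∉ nM M := by
  by_contra h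
  push Not at h
  exact c.notNormal (Subgroup.normalizer_eq_top_iff.1 (eq_top_iff.2 fun g _ => h g))

theorem exists_swap : ∃ u : G, orderOf u = 2 ∧ u ∉ nM M := by
  obtain ⟨g, hg⟩ := c.exists_notMem
  obtain ⟨t, ht, hm⟩ := c.exu hg
  refine ⟨t, ht, fun hn => hg ?_⟩
  simpa using (nM M).mul_mem hn ((nM M).inv_mem (c.m_le hm))

theorem card_swap {g : G} (hg : g ∉ nM M) :
    Nat.card {t : G // orderOf t = 2 ∧ g⁻¹ * t ∈ nM M} = Nat.card (hM M z) := by
  have hex : ∀ v : hM M z, ∃ t : G, orderOf t = 2 ∧ (g * v)⁻¹ * t ∈ M := fun v =>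
    c.exu (c.mul_h_notMem hg v.2.1)
  choose f hf1 hf2 using hex
  have hmem : ∀ v : hM M z, g⁻¹ * f v ∈ nM M := fun v => by
    have := (nM M).mul_mem v.2.1 (c.m_le (hf2 v))
    simpa [mul_assoc] using this
  refine (Nat.card_congr (Equiv.ofBijective
    (fun v => (⟨f v, hf1 v, hmem v⟩ : {t : G // orderOf t = 2 ∧ g⁻¹ * t ∈ nM M})) ⟨?_, ?_⟩)).symm
  · intro v w he
    have he' : f v = f w := congrArg (fun t => t.1) he
    have h1 := hf2 v
    have h2 := hf2 w
    rw [he'] at h1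
    have := M.mul_mem h1 (M.inv_mem h2)
    rw [show (g * v)⁻¹ * f w * ((g * w)⁻¹ * f w)⁻¹ = (v : G)⁻¹ * w by group] at this
    exact Subtype.ext (inv_mul_eq_one.1 (c.inf_eq this
      ((hM M z).mul_mem ((hM M z).inv_mem v.2) w.2)))
  · rintro ⟨t, ht, htg⟩
    obtain ⟨x, hx, v, hv, he⟩ := c.decomp htg
    refine ⟨⟨v, hv⟩, Subtype.ext ?_⟩
    have htN : t ∉ nM M := fun h => hg (by
      have := (nM M).mul_mem h ((nM M).inv_mem htg)
      simpa using this)
    refine (c.coset_unique htN (orderOf_eq_two_iff'.1 ht).2 (orderOf_eq_two_iff'.1 (hf1 _)).2 ?_).symm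
    have h1 : (g * v)⁻¹ * t ∈ M := by
      rw [show (g * v)⁻¹ * t = v⁻¹ * (g⁻¹ * t) by group, he, ← mul_assoc]
      have := c.conj_mem ((nM M).inv_mem hv.1) hx
      simpa using this
    have := M.mul_mem (M.inv_mem h1) (hf2 ⟨v, hv⟩)
    rwa [show ((g * v)⁻¹ * t)⁻¹ * ((g * v)⁻¹ * f ⟨v, hv⟩) = t⁻¹ * f ⟨v, hv⟩ by group] at this

/-- The projection of `N` onto `C_N(z)`. -/
noncomputable def proj : nM M →* hM M z :=
  MonoidHom.mk' (fun d => ⟨(c.decomp d.2).choose_spec.2.choose, (c.decomp d.2).choose_spec.2.choose_spec.1⟩)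
    (fun a b => by
      obtain ⟨hxa, hva⟩ := (c.decomp a.2).choose_spec
      obtain ⟨hxb, hvb⟩ := (c.decomp b.2).choose_spec
      obtain ⟨hxab, hvab⟩ := (c.decomp (a * b).2).choose_spec
      refine Subtype.ext (c.decomp_unique hxab (M.mul_mem hxa (c.conj_mem hva.choose_spec.1.1 hxb))
        hvab.choose_spec.1 ((hM M z).mul_mem hva.choose_spec.1 hvb.choose_spec.1) ?_).2
      rw [← hvab.choose_spec.2, Subgroup.coe_mul]
      conv_lhs => rw [hva.choose_spec.2, hvb.choose_spec.2]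
      group)

theorem proj_spec (d : nM M) : ∃ x ∈ M, (d : G) = x * (c.proj d : G) :=
  ⟨_, (c.decomp d.2).choose_spec.1, (c.decomp d.2).choose_spec.2.choose_spec.2⟩

theorem proj_eq {x v : G} {d : nM M} (hx : x ∈ M) (hv : v ∈ hM M z) (he : (d : G) = x * v) :
    (c.proj d : G) = v := by
  obtain ⟨y, hy, h⟩ := c.proj_spec d
  exact (c.decomp_unique hy hx (c.proj d).2 hv (h.symm.trans he)).2

/-- The inverted elements attached to a swapping involution. -/
theorem inverted_facts {u : G} (hu : orderOf u = 2) (huN : u ∉ nM M) :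
    (∀ x ∈ M, u * x * u ∈ nM M → x = 1) ∧
    (∀ d ∈ nM M, u * d * u ∈ nM M → u * d * u = d⁻¹) ∧
    (∀ v ∈ hM M z, ∃ x ∈ M, u * (x * v) * u = (x * v)⁻¹) := by
  classical
  obtain ⟨-, huu⟩ := orderOf_eq_two_iff'.1 hu
  have hui : u⁻¹ = u := inv_eq_of_mul_eq_one_right huu
  let Inv := {d : nM M // u * (d : G) * u = (d : G)⁻¹}
  have hcard : Nat.card Inv = Nat.card (hM M z) := by
    rw [← c.card_swap huN]
    refine Nat.card_congr ⟨fun d => ⟨u * d.1, ?_, by simp⟩, fun t => ⟨⟨u⁻¹ * t.1, t.2.2⟩, ?_⟩,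
      fun d => Subtype.ext (Subtype.ext (by simp)), fun t => Subtype.ext (by simp)⟩
    · refine orderOf_eq_two_iff'.2 ⟨fun h => huN ?_, ?_⟩
      · rw [eq_inv_of_mul_eq_one_left h]; exact (nM M).inv_mem d.1.2
      · rw [← mul_assoc, d.2, inv_mul_cancel]
    · have ht := (orderOf_eq_two_iff'.1 t.2.1).2
      show u * (u⁻¹ * t.1) * u = (u⁻¹ * t.1)⁻¹
      rw [mul_inv_cancel_left, mul_inv_rev, inv_inv, inv_eq_of_mul_eq_one_right ht]
  have hmem : ∀ x ∈ M, u * x * u ∈ M → x = 1 := fun x hx h => by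
    by_contra h1
    refine huN (c.mem_nM hx h1 ?_)
    rwa [hui]
  have hinj : Function.Injective fun d : Inv => c.proj d.1 := by
    intro d d' he
    obtain ⟨x, hx, hd⟩ := c.proj_spec d.1
    obtain ⟨x', hx', hd'⟩ := c.proj_spec d'.1
    have he' : (c.proj d.1 : G) = c.proj d'.1 := congrArg (fun v : hM M z => (v : G)) he
    rw [← he'] at hd'
    set v := (c.proj d.1 : G)
    have hv : v ∈ hM M z := (c.proj d.1).2
    -- `x x'⁻¹` goes into `M`
    have h1 : u * (x' * x⁻¹) * u ∈ M := by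
      have : u * (x' * x⁻¹) * u = (u * (d'.1 : G) * u) * (u * (d.1 : G) * u)⁻¹ := by
        rw [hd, hd', mul_inv_rev, mul_inv_rev, hui]
        simp only [← mul_assoc, mul_inv_rev]
        simp [mul_assoc, huu, ← mul_assoc u u]
      rw [this, d'.2, d.2, inv_inv, hd, hd', mul_inv_rev]
      have hc := c.conj_mem ((nM M).inv_mem hv.1) (M.mul_mem (M.inv_mem hx') hx)
      rw [inv_inv] at hc
      simpa [mul_assoc] using hc
    have h2 := hmem _ (M.mul_mem hx' (M.inv_mem hx)) h1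
    exact Subtype.ext (Subtype.ext (by rw [hd, hd', mul_inv_eq_one.1 h2]))
  have hsurj : Function.Surjective fun d : Inv => c.proj d.1 :=
    ((Nat.bijective_iff_injective_and_card _).2 ⟨hinj, hcard⟩).2
  have hex : ∀ v ∈ hM M z, ∃ x ∈ M, u * (x * v) * u = (x * v)⁻¹ := fun v hv => by
    obtain ⟨d, hd⟩ := hsurj ⟨v, hv⟩
    obtain ⟨x, hx, he⟩ := c.proj_spec d.1
    have hv' : (c.proj d.1 : G) = v := congrArg (fun v : hM M z => (v : G)) hd
    rw [hv'] at he
    exact ⟨x, hx, he ▸ d.2⟩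
  -- the intersection with `M` is trivial
  have hW : ∀ x ∈ M, u * x * u ∈ nM M → x = 1 := by
    intro x hx hw
    obtain ⟨x0, hx0, he0⟩ := hex z c.z_mem_h
    set d := x0 * z with hd
    obtain ⟨hd1, hdd⟩ := orderOf_eq_two_iff'.1 (c.mz_inv hx0)
    have hdN : d ∈ nM M := (nM M).mul_mem (c.m_le hx0) c.mem
    have hud : u * d * u = d := by rw [he0, inv_eq_of_mul_eq_one_right hdd]
    have hdi : u * d = d * u := by
      calc u * d = u * d * (u * u) := by rw [huu, mul_one]
        _ = u * d * u * u := by group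
        _ = d * u := by rw [hud]
    have hxi := c.inverts hdN hd1 hdd hx
    set w : nM M := ⟨u * x * u, hw⟩
    have hdw : (⟨d, hdN⟩ : nM M) * w * ⟨d, hdN⟩ = w⁻¹ := Subtype.ext (by
      show d * (u * x * u) * d = (u * x * u)⁻¹
      calc d * (u * x * u) * d = (d * u) * x * (u * d) := by group
        _ = (u * d) * x * (d * u) := by rw [hdi]
        _ = u * (d * x * d) * u := by group
        _ = (u * x * u)⁻¹ := by rw [hxi, mul_inv_rev, mul_inv_rev, hui, mul_assoc])
    have hp := congrArg (fun e : nM M => (c.proj e : G)) hdw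
    simp only [map_mul, map_inv, Subgroup.coe_mul, Subgroup.coe_inv,
      c.proj_eq (d := ⟨d, hdN⟩) hx0 c.z_mem_h rfl] at hp
    set v := (c.proj w : G)
    have hv : v ∈ hM M z := (c.proj w).2
    have hvv : v * v = 1 := by
      rw [c.h_comm hv, mul_assoc, c.zz, mul_one] at hp
      exact mul_eq_one_iff_eq_inv.2 hp
    have hsq : u * (x * x) * u ∈ M := by
      obtain ⟨y, hy, he⟩ := c.proj_spec w
      have he' : u * x * u = y * v := he
      have : u * (x * x) * u = (u * x * u) * (u * x * u) := by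
        calc u * (x * x) * u = u * x * (u * u) * x * u := by rw [huu]; group
          _ = _ := by group
      rw [this, he']
      have h1 := M.mul_mem hy (c.conj_mem hv.1 hy)
      rwa [inv_eq_of_mul_eq_one_right hvv, show y * (v * y * v) = y * v * (y * v) by group] at h1
    exact sq_eq_one_of_odd (c.odd_ord hx) (hmem _ (M.mul_mem hx hx) hsq)
  refine ⟨hW, fun d hd hud => ?_, hex⟩
  obtain ⟨x, hx, v, hv, rfl⟩ := c.decomp hd
  obtain ⟨x', hx', he⟩ := hex v hv
  suffices x = x' by rw [this, he]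
  refine mul_inv_eq_one.1 (hW _ (M.mul_mem hx (M.inv_mem hx')) ?_)
  have : u * (x * x'⁻¹) * u = (u * (x * v) * u) * (u * (x' * v) * u)⁻¹ := by
    rw [mul_inv_rev, mul_inv_rev, mul_inv_rev, hui]
    simp only [← mul_assoc]
    simp [mul_assoc, huu, ← mul_assoc u u]
  rw [this, he, inv_inv]
  exact (nM M).mul_mem hud ((nM M).mul_mem (c.m_le hx') hv.1)

/-- `C_N(z)` is abelian. -/
theorem h_abelian {v w : G} (hv : v ∈ hM M z) (hw : w ∈ hM M z) : v * w = w * v := by
  obtain ⟨u, hu, huN⟩ := c.exists_swap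
  obtain ⟨-, hinv, hex⟩ := c.inverted_facts hu huN
  obtain ⟨x, hx, he⟩ := hex v hv
  obtain ⟨y, hy, he'⟩ := hex w hw
  have hd : x * v ∈ nM M := (nM M).mul_mem (c.m_le hx) hv.1
  have hd' : y * w ∈ nM M := (nM M).mul_mem (c.m_le hy) hw.1
  obtain ⟨-, huu⟩ := orderOf_eq_two_iff'.1 hu
  have hprod : u * (x * v * (y * w)) * u = (x * v)⁻¹ * (y * w)⁻¹ := by
    rw [← he, ← he']
    calc u * (x * v * (y * w)) * u = u * (x * v) * (u * u) * (y * w) * u := by rw [huu]; group
      _ = _ := by group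
  have hm : u * (x * v * (y * w)) * u ∈ nM M :=
    hprod ▸ (nM M).mul_mem ((nM M).inv_mem hd) ((nM M).inv_mem hd')
  have h := hinv _ ((nM M).mul_mem hd hd') hm
  rw [hprod, ← mul_inv_rev, inv_inj] at h
  have hcomm : (⟨x * v, hd⟩ : nM M) * ⟨y * w, hd'⟩ = ⟨y * w, hd'⟩ * ⟨x * v, hd⟩ :=
    Subtype.ext h.symm
  have hp := congrArg (fun e : nM M => (c.proj e : G)) hcomm
  simpa only [map_mul, Subgroup.coe_mul, c.proj_eq (d := ⟨x * v, hd⟩) hx hv rfl,
    c.proj_eq (d := ⟨y * w, hd'⟩) hy hw rfl] using hp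

end Cfg

end CfsgLib.TIInvol
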